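import Mathlib
import Cfsg.Agent.Lib.PPD.Zsigmondy

/-!
Arithmetic for the recognition of `PSL₂(2^m)` and `Sz(2^(2m+1))` by their odd prime divisors.
-/

set_option autoImplicit false

namespace Cfsg.Agent.Lib.CITGroups

/-- A prime dividing two numbers `2^a - 1`, `2^b - 1` divides that of the gcd. -/
theorem dvd_two_pow_gcd {r a b : ℕ} (ha : r ∣ 2 ^ a - 1) (hb : r ∣ 2 ^ b - 1) :
    r ∣ 2 ^ Nat.gcd a b - 1 := by
  rw [← Nat.pow_sub_one_gcd_pow_sub_one]
  exact Nat.dvd_gcd ha hb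

/-- A primitive prime divisor of `2^n - 1`. -/
def Prim (r n : ℕ) : Prop :=
  r.Prime ∧ r ∣ 2 ^ n - 1 ∧ ∀ k : ℕ, 0 < k → k < n → ¬ r ∣ 2 ^ k - 1

theorem exists_prim {n : ℕ} (hn : 2 ≤ n) (h6 : n ≠ 6) : ∃ r, Prim r n := by
  refine PPD.exists_primitive_prime le_rfl hn (fun h => h6 h.2) ?_
  rintro ⟨-, j, hj⟩
  rcases j with _ | _ | j <;> simp [pow_succ] at hj <;> omega

theorem Prim.dvd {r n k : ℕ} (h : Prim r n) (hn : 0 < n) (hk : r ∣ 2 ^ k - 1) : n ∣ k := by
  have hg := Nat.gcd_pos_of_pos_left k hn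
  have hle := Nat.le_of_dvd hn (Nat.gcd_dvd_left n k)
  rcases hle.lt_or_eq with hlt | he
  · exact absurd (dvd_two_pow_gcd h.2.1 hk) (h.2.2 _ hg hlt)
  · exact he ▸ Nat.gcd_dvd_right n k

theorem odd_two_pow_sub_one {n : ℕ} (hn : 0 < n) : ¬ 2 ∣ 2 ^ n - 1 := by
  obtain ⟨k, rfl⟩ := Nat.exists_eq_succ_of_ne_zero hn.ne'
  have := Nat.one_le_two_pow (n := k)
  rw [pow_succ]
  omega

theorem Prim.ne_two {r n : ℕ} (h : Prim r n) (hn : 0 < n) : r ≠ 2 := fun e =>
  odd_two_pow_sub_one hn (e ▸ h.2.1)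

theorem Prim.lt {r n : ℕ} (h : Prim r n) (hn : 0 < n) : n < r := by
  haveI := Fact.mk h.1
  have h2 : r ≠ 2 := h.ne_two hn
  have hd : r ∣ 2 ^ (r - 1) - 1 := by
    have hcop : IsCoprime (2 : ℤ) r := by
      rw [Int.isCoprime_iff_nat_coprime]
      simpa using (Nat.coprime_primes Nat.prime_two h.1).2 (Ne.symm h2)
    have h1 := Int.ModEq.pow_card_sub_one_eq_one h.1 hcop
    rw [Int.modEq_comm, Int.modEq_iff_dvd] at h1
    have h1' : ((r : ℤ)) ∣ (((2 ^ (r - 1) - 1 : ℕ)) : ℤ) := by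
      rw [Nat.cast_sub Nat.one_le_two_pow]
      push_cast
      exact h1
    exact Int.natCast_dvd_natCast.1 h1'
  have := Nat.le_of_dvd (by have := h.1.two_le; omega) (h.dvd hn hd)
  have := h.1.two_le
  omega

theorem two_pow_add_one_dvd (j : ℕ) : 2 ^ j + 1 ∣ 2 ^ (2 * j) - 1 :=
  ⟨2 ^ j - 1, by rw [← Nat.sq_sub_sq, one_pow, ← pow_mul, mul_comm j 2]⟩

theorem two_pow_sub_one_dvd' (j : ℕ) : 2 ^ j - 1 ∣ 2 ^ (2 * j) - 1 :=
  Nat.pow_sub_one_dvd_pow_sub_one 2 (dvd_mul_left j 2)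

/-- An odd prime power one below a power of two is prime. -/
theorem eq_one_of_pow_add_one {q e k : ℕ} (hq : 3 ≤ q) (hodd : Odd q) (he : 0 < e)
    (h : q ^ e + 1 = 2 ^ k) : e = 1 := by
  rcases Nat.even_or_odd' e with ⟨j, rfl | rfl⟩
  · exfalso
    have hj : 3 ≤ q ^ j := hq.trans (Nat.le_self_pow (by omega) q)
    obtain ⟨t, ht⟩ : Odd (q ^ j) := hodd.pow
    have h4 : 2 ≤ k := by
      by_contra! hk
      interval_cases k <;> rw [pow_mul', ht] at h <;> nlinarith
    obtain ⟨c, hc⟩ := pow_dvd_pow 2 h4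
    rw [pow_mul', ht, hc] at h
    ring_nf at h
    omega
  · have key : ∀ i, ∃ S : ℤ, Odd S ∧ (q : ℤ) ^ (2 * i + 1) + 1 = ((q : ℤ) + 1) * S := by
      intro i
      induction i with
      | zero => exact ⟨1, odd_one, by ring⟩
      | succ i ih =>
        obtain ⟨S, hS, hSe⟩ := ih
        refine ⟨(q : ℤ) ^ 2 * S - ((q : ℤ) - 1), ?_, ?_⟩
        · obtain ⟨a, rfl⟩ := hodd
          obtain ⟨b, rfl⟩ := hS
          exact ⟨(2 * (a : ℤ) + 1) ^ 2 * b + 2 * a ^ 2 + a, by push_cast; ring⟩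
        · linear_combination (q : ℤ) ^ 2 * hSe
    obtain ⟨S, hS, hSe⟩ := key j
    have h' : ((q : ℤ) + 1) * S = 2 ^ k := by rw [← hSe]; exact_mod_cast h
    have hSd : S.natAbs ∣ 2 ^ k := by
      have := congrArg Int.natAbs h'
      rw [Int.natAbs_mul, Int.natAbs_pow] at this
      exact ⟨((q : ℤ) + 1).natAbs, by rw [mul_comm]; exact this.symm⟩
    obtain ⟨i, -, hi⟩ := (Nat.dvd_prime_pow Nat.prime_two).1 hSd
    have hi0 : i = 0 := by
      by_contra hi0
      have : Even S.natAbs := hi ▸ even_two.pow_of_ne_zero hi0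
      exact (Nat.not_even_iff_odd.2 (Int.natAbs_odd.2 hS)) this
    rw [hi0, pow_zero] at hi
    rcases Int.natAbs_eq_iff.1 hi with e1 | e1 <;> rw [e1] at hSe
    · have h2 : q ^ (2 * j + 1) = q := by
        have h3 : (q : ℤ) ^ (2 * j + 1) = (q : ℤ) := by push_cast at hSe; linarith
        exact_mod_cast h3
      have := Nat.pow_right_injective (by omega : 2 ≤ q) (h2.trans (pow_one q).symm)
      omega
    · have h3 : (0 : ℤ) < (q : ℤ) ^ (2 * j + 1) := by positivity
      push_cast at hSe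
      omega

/-- An odd prime power one above a power of two is prime or nine. -/
theorem eq_one_of_eq_add_one {q e k : ℕ} (hq : 3 ≤ q) (hodd : Odd q) (he : 0 < e)
    (h : q ^ e = 2 ^ k + 1) : e = 1 ∨ q ^ e = 9 := by
  rcases Nat.even_or_odd' e with ⟨j, rfl | rfl⟩
  · refine Or.inr ?_
    rw [pow_mul'] at h ⊢
    have hj : 3 ≤ q ^ j := hq.trans (Nat.le_self_pow (by omega) q)
    set x := q ^ j with hx
    have h1 : (x + 1) * (x - 1) = 2 ^ k := by
      rw [← Nat.sq_sub_sq, one_pow, h, Nat.add_sub_cancel]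
    obtain ⟨a, -, ha⟩ := (Nat.dvd_prime_pow Nat.prime_two).1 (Dvd.intro _ h1)
    obtain ⟨b, -, hb⟩ := (Nat.dvd_prime_pow Nat.prime_two).1 (Dvd.intro_left _ h1)
    rcases Nat.lt_or_ge b 2 with hb2 | hb2
    · interval_cases b
      · omega
      · have : x = 3 := by omega
        rw [this]
        norm_num
    · have ha2 : 2 ≤ a := by
        by_contra! hc
        interval_cases a <;> omega
      obtain ⟨c, hc⟩ := pow_dvd_pow 2 hb2
      obtain ⟨d, hd⟩ := pow_dvd_pow 2 ha2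
      omega
  · refine Or.inl ?_
    have key : ∀ i, ∃ S : ℤ, Odd S ∧ (q : ℤ) ^ (2 * i + 1) - 1 = ((q : ℤ) - 1) * S := by
      intro i
      induction i with
      | zero => exact ⟨1, odd_one, by ring⟩
      | succ i ih =>
        obtain ⟨S, hS, hSe⟩ := ih
        refine ⟨(q : ℤ) ^ 2 * S + ((q : ℤ) + 1), ?_, ?_⟩
        · obtain ⟨a, rfl⟩ := hodd
          obtain ⟨b, rfl⟩ := hS
          exact ⟨(2 * (a : ℤ) + 1) ^ 2 * b + 2 * a ^ 2 + 3 * a + 1, by push_cast; ring⟩
        · linear_combination (q : ℤ) ^ 2 * hSe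
    obtain ⟨S, hS, hSe⟩ := key j
    have h' : ((q : ℤ) - 1) * S = 2 ^ k := by
      rw [← hSe]
      have : (q : ℤ) ^ (2 * j + 1) = 2 ^ k + 1 := by exact_mod_cast h
      rw [this]; ring
    have hSd : S.natAbs ∣ 2 ^ k := by
      have := congrArg Int.natAbs h'
      rw [Int.natAbs_mul, Int.natAbs_pow] at this
      exact ⟨((q : ℤ) - 1).natAbs, by rw [mul_comm]; exact this.symm⟩
    obtain ⟨i, -, hi⟩ := (Nat.dvd_prime_pow Nat.prime_two).1 hSd
    have hi0 : i = 0 := by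
      by_contra hi0
      have : Even S.natAbs := hi ▸ even_two.pow_of_ne_zero hi0
      exact (Nat.not_even_iff_odd.2 (Int.natAbs_odd.2 hS)) this
    rw [hi0, pow_zero] at hi
    rcases Int.natAbs_eq_iff.1 hi with e1 | e1 <;> rw [e1] at hSe
    · have h2 : q ^ (2 * j + 1) = q := by
        have h3 : (q : ℤ) ^ (2 * j + 1) = (q : ℤ) := by push_cast at hSe; linarith
        exact_mod_cast h3
      have := Nat.pow_right_injective (by omega : 2 ≤ q) (h2.trans (pow_one q).symm)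
      omega
    · exfalso
      have h3 : (1 : ℤ) ≤ (q : ℤ) ^ (2 * j + 1) := one_le_pow₀ (by omega)
      push_cast at hSe
      omega

/-- The orders with the same primes as `2^(2m) - 1` exclude the small list. -/
theorem not_list {q m : ℕ} (hm : 4 ≤ m)
    (hq : q = 4 ∨ q = 9 ∨ (q.Prime ∧ ∃ k : ℕ, q = 2 ^ k + 1 ∨ q + 1 = 2 ^ k))
    (hp : q.Prime → q ≠ 2 → q ∣ 2 ^ (2 * m) - 1)
    (hr : ∀ r : ℕ, r.Prime → r ≠ 2 → r ∣ 2 ^ (2 * m) - 1 → r ∣ q * ((q + 1) * (q - 1))) :
    False := by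
  obtain ⟨r, hrP⟩ := exists_prim (n := 2 * m) (by omega) (by omega)
  have hr9 : 9 ≤ r := by have := hrP.lt (by omega); omega
  have hr2 : r ≠ 2 := by omega
  have hrq := hr r hrP.1 hr2 hrP.2.1
  rcases hq with rfl | rfl | ⟨hqp, k, hk | hk⟩
  · rcases hrP.1.dvd_mul.1 hrq with h | h
    · have := Nat.le_of_dvd (by norm_num) h
      omega
    · rcases hrP.1.dvd_mul.1 h with h' | h' <;> have := Nat.le_of_dvd (by norm_num) h' <;> omega
  · rcases hrP.1.dvd_mul.1 hrq with h | h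
    · have h3 : r ∣ 3 := hrP.1.dvd_of_dvd_pow (n := 2) (by simpa using h)
      have := Nat.le_of_dvd (by norm_num) h3
      omega
    · rcases hrP.1.dvd_mul.1 h with h' | h'
      · have h5 : r ∣ 2 * 5 := by simpa using h'
        rcases hrP.1.dvd_mul.1 h5 with h'' | h'' <;>
          have := Nat.le_of_dvd (by norm_num) h'' <;> omega
      · have h2 : r ∣ 2 := hrP.1.dvd_of_dvd_pow (n := 3) (by simpa using h')
        have := Nat.le_of_dvd (by norm_num) h2
        omega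
  · -- Fermat primes
    rcases k with _ | k
    · subst hk
      norm_num at hrq
      rcases hrP.1.dvd_mul.1 (show r ∣ 2 * 3 by simpa using hrq) with h | h <;>
        have := Nat.le_of_dvd (by norm_num) h <;> omega
    have hkm : k + 1 ∣ m := by
      have h1 := hp hqp (by rw [hk, pow_succ]; have := Nat.one_le_two_pow (n := k); omega)
      have h2 : q ∣ 2 ^ (2 * (k + 1)) - 1 := hk ▸ two_pow_add_one_dvd _
      have h3 := dvd_two_pow_gcd h2 h1
      rw [Nat.gcd_mul_left] at h3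
      set d := Nat.gcd (k + 1) m with hd
      have hdk : d ∣ k + 1 := Nat.gcd_dvd_left _ _
      have hd0 : 0 < d := Nat.gcd_pos_of_pos_left _ (by omega)
      obtain ⟨c, hc⟩ := hdk
      rcases c with _ | _ | c
      · simp at hc
      · rw [zero_add, mul_one] at hc
        rw [hc]
        exact Nat.gcd_dvd_right _ _
      · exfalso
        have hle : 2 * d ≤ k + 1 := by rw [hc]; nlinarith
        have hpow : 2 ^ (2 * d) ≤ 2 ^ (k + 1) := Nat.pow_le_pow_right (by norm_num) hle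
        have hpos : 0 < 2 ^ (2 * d) - 1 := by
          have := Nat.one_lt_two_pow (n := 2 * d) (by omega)
          omega
        have := Nat.le_of_dvd hpos h3
        omega
    -- the odd primes lie in `q` and `2^k + 1`
    have hsplit : ∀ s : ℕ, s.Prime → s ≠ 2 → s ∣ 2 ^ (2 * m) - 1 →
        s = q ∨ s ∣ 2 ^ (2 * k) - 1 := by
      intro s hs hs2 hsd
      have h2' : ¬ s ∣ 2 := fun h => hs2 ((Nat.prime_dvd_prime_iff_eq hs Nat.prime_two).1 h)
      rcases hs.dvd_mul.1 (hr s hs hs2 hsd) with h | h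
      · exact Or.inl ((Nat.prime_dvd_prime_iff_eq hs hqp).1 h)
      · rcases hs.dvd_mul.1 h with h' | h'
        · right
          rw [hk, show 2 ^ (k + 1) + 1 + 1 = 2 * (2 ^ k + 1) by ring] at h'
          exact ((hs.dvd_mul.1 h').resolve_left h2').trans (two_pow_add_one_dvd _)
        · rw [hk, Nat.add_sub_cancel] at h'
          exact absurd (hs.dvd_of_dvd_pow h') h2'
    have hm1 : k + 1 = m := by
      rcases hsplit r hrP.1 hr2 hrP.2.1 with h | h
      · have := hrP.dvd (by omega) (k := 2 * (k + 1))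
          (h ▸ hk ▸ two_pow_add_one_dvd _)
        exact Nat.dvd_antisymm hkm (Nat.dvd_of_mul_dvd_mul_left (by norm_num) this)
      · have := Nat.dvd_of_mul_dvd_mul_left (by norm_num : 0 < 2) (hrP.dvd (by omega) h)
        rcases k with _ | k
        · exfalso
          subst hk
          norm_num at hrq
          have h12 : r ∣ 3 * (4 * 2) := by simpa using hrq
          rcases hrP.1.dvd_mul.1 h12 with h' | h'
          · have := Nat.le_of_dvd (by norm_num) h'; omega
          · rcases hrP.1.dvd_mul.1 h' with h'' | h'' <;>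
              have := Nat.le_of_dvd (by norm_num) h'' <;> omega
        · have h1 := Nat.le_of_dvd (by omega) this
          have h2 := Nat.le_of_dvd (by omega) hkm
          omega
    have hm6 : m ≠ 6 := by
      rintro rfl
      obtain rfl : k = 5 := by omega
      rw [hk] at hqp
      norm_num at hqp
    obtain ⟨s, hsP⟩ := exists_prim (n := m) (by omega) hm6
    rcases hsplit s hsP.1 (hsP.ne_two (by omega)) (hsP.2.1.trans (two_pow_sub_one_dvd' m)) with h | h
    · have h1 : q ∣ 2 ^ (k + 1) - 1 := by rw [← h, hm1]; exact hsP.2.1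
      have hpos : 0 < 2 ^ (k + 1) - 1 := by
        have := Nat.one_lt_two_pow (n := k + 1) (by omega)
        omega
      have := Nat.le_of_dvd hpos h1
      omega
    · have := hsP.dvd (by omega) h
      rw [← hm1] at this
      have h2 : k + 1 ∣ 2 := by
        have h3 : k + 1 ∣ 2 * (k + 1) := dvd_mul_left _ _
        rw [show 2 * (k + 1) = 2 * k + 2 by ring] at h3
        exact (Nat.dvd_add_right this).1 h3
      have := Nat.le_of_dvd (by norm_num) h2
      omega
  · -- Mersenne primes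
    have hk2 : 2 ≤ k := by
      by_contra! hc
      have := hqp.two_le
      interval_cases k <;> omega
    have hqk : q = 2 ^ k - 1 := by omega
    have hkp : k.Prime := (Nat.prime_of_pow_sub_one_prime (by omega) (hqk ▸ hqp)).2
    have hkm : k ∣ 2 * m := by
      have h1 := hp hqp (fun e => by
        rw [e] at hk
        obtain ⟨c, hc⟩ := pow_dvd_pow 2 hk2
        omega)
      have h3 := dvd_two_pow_gcd (hqk ▸ dvd_rfl : q ∣ 2 ^ k - 1) h1
      rcases (Nat.dvd_prime hkp).1 (Nat.gcd_dvd_left k (2 * m)) with e | e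
      · rw [e] at h3
        exact absurd (Nat.dvd_one.1 h3) hqp.ne_one
      · exact e ▸ Nat.gcd_dvd_right _ _
    rcases hrP.1.dvd_mul.1 hrq with h | h
    · have h1 := hrP.dvd (by omega) (k := k) (hqk ▸ h)
      rcases (Nat.dvd_prime hkp).1 h1 with e | e
      · omega
      · rw [← e] at hkp
        exact absurd hkp (Nat.not_prime_mul (by norm_num) (by omega))
    · have h2' : ¬ r ∣ 2 := fun h' => hr2 ((Nat.prime_dvd_prime_iff_eq hrP.1 Nat.prime_two).1 h')
      rcases hrP.1.dvd_mul.1 h with h' | h'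
      · rw [hk] at h'
        exact h2' (hrP.1.dvd_of_dvd_pow h')
      · obtain ⟨j, rfl⟩ : ∃ j, k = j + 1 := ⟨k - 1, by omega⟩
        rw [show q - 1 = 2 * (2 ^ j - 1) by rw [hqk, pow_succ]; omega] at h'
        have h1 := hkm.trans (hrP.dvd (by omega) ((hrP.1.dvd_mul.1 h').resolve_left h2'))
        have := Nat.le_of_dvd (by omega) h1
        omega

/-- Even exponents with the same odd primes. -/
theorem psl_param_eq {n m : ℕ} (hm : 4 ≤ m)
    (h : ∀ r : ℕ, r.Prime → r ≠ 2 → (r ∣ 2 ^ (2 * n) - 1 ↔ r ∣ 2 ^ (2 * m) - 1)) (hn : 0 < n) :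
    n = m := by
  obtain ⟨r, hr⟩ := exists_prim (n := 2 * m) (by omega) (by omega)
  have h1 := Nat.dvd_of_mul_dvd_mul_left (by norm_num : 0 < 2)
    (hr.dvd (by omega) ((h r hr.1 (hr.ne_two (by omega))).2 hr.2.1))
  have hn4 : m ≤ n := Nat.le_of_dvd hn h1
  obtain ⟨s, hs⟩ := exists_prim (n := 2 * n) (by omega) (by omega)
  have h2 := Nat.dvd_of_mul_dvd_mul_left (by norm_num : 0 < 2)
    (hs.dvd (by omega) ((h s hs.1 (hs.ne_two (by omega))).1 hs.2.1))
  exact Nat.dvd_antisymm h2 h1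

theorem suzuki_factor_dvd (a : ℕ) :
    ((2 ^ a) ^ 2 + 1) * (2 ^ a - 1) ∣ 2 ^ (4 * a) - 1 := by
  rw [show 4 * a = 2 * (2 * a) by ring, show (2 ^ a) ^ 2 = 2 ^ (2 * a) by rw [← pow_mul, mul_comm]]
  have e : 2 ^ (2 * (2 * a)) - 1 = (2 ^ (2 * a) + 1) * (2 ^ (2 * a) - 1) := by
    rw [← Nat.sq_sub_sq, one_pow, ← pow_mul, mul_comm (2 * a) 2]
  rw [e]
  exact Nat.mul_dvd_mul_left _ (two_pow_sub_one_dvd' a)

/-- A primitive prime divisor of `q^4 - 1` divides `q^2 + 1`. -/
theorem Prim.dvd_sq_add_one {r a : ℕ} (h : Prim r (4 * a)) (ha : 0 < a) : r ∣ (2 ^ a) ^ 2 + 1 := by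
  have e : 2 ^ (4 * a) - 1 = ((2 ^ a) ^ 2 + 1) * (2 ^ (2 * a) - 1) := by
    rw [← pow_mul, show a * 2 = 2 * a by ring, ← Nat.sq_sub_sq, one_pow, ← pow_mul,
      show 2 * a * 2 = 4 * a by ring]
  exact (h.1.dvd_mul.1 (e ▸ h.2.1)).resolve_right (h.2.2 _ (by omega) (by omega))

/-- Suzuki parameters with the same odd primes. -/
theorem suzuki_param_eq {a b : ℕ} (ha : 3 ≤ a) (hb : 3 ≤ b)
    (h : ∀ r : ℕ, r.Prime → r ≠ 2 →
      (r ∣ ((2 ^ a) ^ 2 + 1) * (2 ^ a - 1) ↔ r ∣ ((2 ^ b) ^ 2 + 1) * (2 ^ b - 1))) : a = b := by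
  obtain ⟨r, hr⟩ := exists_prim (n := 4 * a) (by omega) (by omega)
  obtain ⟨s, hs⟩ := exists_prim (n := 4 * b) (by omega) (by omega)
  have h1 := hr.dvd (by omega) (((h r hr.1 (hr.ne_two (by omega))).1
    (Dvd.dvd.mul_right (hr.dvd_sq_add_one (by omega)) _)).trans (suzuki_factor_dvd b))
  have h2 := hs.dvd (by omega) (((h s hs.1 (hs.ne_two (by omega))).2
    (Dvd.dvd.mul_right (hs.dvd_sq_add_one (by omega)) _)).trans (suzuki_factor_dvd a))
  have := Nat.dvd_antisymm h1 h2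
  omega

end Cfsg.Agent.Lib.CITGroups
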