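import Mathlib
import Cfsg.Prelude.Def_TwoFusion
import Cfsg.Agent.Lib.CIT.StrongEmb
import Cfsg.Agent.Lib.BrauerSuzukiQ.ZStarFinal
import Cfsg.Agent.Lib.PSolvable.Core
import Cfsg.Agent.Lib.MinimalNormal
import Cfsg.Agent.Lib.CIT.QuotientTI
import Cfsg.Agent.S0205

/-!
CIT groups in general: without two commuting involutions they are solvable; if not solvable they
have no normal subgroup of odd order, and modulo the 2-core a simple minimal normal subgroup with
trivial centralizer.
-/

set_option autoImplicit false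

namespace Cfsg.Agent.Lib.CITGroups

open Cfsg.Agent.Lib.CIT Cfsg.Agent.Lib.SECount

variable {X : Type*} [Group X] [Finite X]

theorem even_card (hns : ¬ Group.IsSolvable X) : 2 ∣ Nat.card X :=
  even_iff_two_dvd.1 (Nat.not_odd_iff_even.1 fun h => hns (Cfsg.Agent.S0205.result h))

/-- A CIT group without commuting involutions is solvable. -/
theorem isSolvable_of_not_hasFour (h : IsCIT X) (hno : ¬ HasFour X) : Group.IsSolvable X := by
  have : Fact (Nat.Prime 2) := ⟨Nat.prime_two⟩
  by_contra hns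
  obtain ⟨t, ht⟩ := exists_prime_orderOf_dvd_card' (G := X) 2 (even_card hns)
  have hiso : Cfsg.IsIsolatedInvolution t := by
    refine ⟨ht, fun g hg => by_contra fun hne => hno ?_⟩
    exact ⟨t, g * t * g⁻¹, ht, (orderOf_conj_eq g t).trans ht, fun e => hne e.symm, hg⟩
  set K := Cfsg.oddCore X
  haveI : (Cfsg.pPrimeCore 2 X).Characteristic := PSolvable.pPrimeCore_characteristic
  have hK : Odd (Nat.card (Cfsg.pPrimeCore 2 X)) :=
    Nat.coprime_two_right.1 PSolvable.pPrimeCore_coprime
  haveI : Group.IsSolvable ↥(Cfsg.pPrimeCore 2 X) := Cfsg.Agent.S0205.result hK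
  set Q := X ⧸ Cfsg.pPrimeCore 2 X
  have hc : ∀ q : Q, Commute (QuotientGroup.mk t : Q) q := by
    intro q
    obtain ⟨g, rfl⟩ := QuotientGroup.mk_surjective q
    have hg : t * g * t⁻¹ * g⁻¹ ∈ Cfsg.pPrimeCore 2 X := BrauerSuzukiQ.zstar hiso g
    rw [← QuotientGroup.eq_one_iff] at hg
    simp only [QuotientGroup.mk_mul, QuotientGroup.mk_inv] at hg
    exact mul_inv_eq_iff_eq_mul.1 (mul_inv_eq_one.1 hg)
  -- the quotient is a 2-group
  have hQ : IsPGroup 2 Q := by
    refine IsPGroup.of_card (n := (Nat.card Q).primeFactorsList.length)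
      (Nat.eq_prime_pow_of_unique_prime_dvd Nat.card_pos.ne' fun {r} hr hrd => ?_)
    by_contra hr2
    haveI := Fact.mk hr
    obtain ⟨yb, hyb⟩ := exists_prime_orderOf_dvd_card' (G := Q) r hrd
    obtain ⟨y, rfl⟩ := QuotientGroup.mk_surjective yb
    -- `y` moves `t` inside the coset, so a conjugate of it commutes with `t`
    set K' := Cfsg.pPrimeCore 2 X
    set H := K' ⊔ Subgroup.zpowers t
    have htH : t ∈ H := Subgroup.mem_sup_right (Subgroup.mem_zpowers t)
    have hHn : H.Normal := ⟨fun x hx g => by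
      have : H.map (QuotientGroup.mk' K') = Subgroup.zpowers (QuotientGroup.mk t : Q) := by
        rw [Subgroup.map_sup, QuotientGroup.map_mk'_self, bot_sup_eq, MonoidHom.map_zpowers]
        rfl
      have hmem : (QuotientGroup.mk (g * x * g⁻¹) : Q) ∈ H.map (QuotientGroup.mk' K') := by
        have hx' : (QuotientGroup.mk x : Q) ∈ H.map (QuotientGroup.mk' K') :=
          Subgroup.mem_map_of_mem _ hx
        rw [this] at hx' ⊢
        obtain ⟨i, hi⟩ := hx'
        refine ⟨i, ?_⟩
        have hi' : (QuotientGroup.mk t : Q) ^ i = QuotientGroup.mk x := hi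
        show (QuotientGroup.mk t : Q) ^ i = _
        rw [QuotientGroup.mk_mul, QuotientGroup.mk_mul, QuotientGroup.mk_inv, ← hi',
          ← (((hc (QuotientGroup.mk g)).zpow_left i).eq), mul_inv_cancel_right]
      obtain ⟨z, hz, hze⟩ := hmem
      have hzK : z⁻¹ * (g * x * g⁻¹) ∈ K' := QuotientGroup.eq.1 hze
      have : g * x * g⁻¹ = z * (z⁻¹ * (g * x * g⁻¹)) := by group
      rw [this]
      exact H.mul_mem hz (Subgroup.mem_sup_left hzK)⟩
    have hzp : IsPGroup 2 (Subgroup.zpowers t) :=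
      IsPGroup.of_card (n := 1) (by rw [Nat.card_zpowers, ht, pow_one])
    obtain ⟨P, hP⟩ := (hzp.comap_subtype (K := H)).exists_le_sylow
    haveI := hHn
    have hfr := Sylow.normalizer_sup_eq_top P
    -- the Sylow subgroup is generated by the involution
    have hPeq : (P : Subgroup H).map H.subtype = Subgroup.zpowers t := by
      refine le_antisymm ?_ ?_
      · rintro _ ⟨p, hp, rfl⟩
        obtain ⟨a, ha, b, hb, hab⟩ := Subgroup.mem_sup_of_normal_left.1 p.2
        have hbP : (⟨b, Subgroup.mem_sup_right hb⟩ : H) ∈ (P : Subgroup H) :=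
          hP (Subgroup.mem_subgroupOf.2 hb)
        have haP : (⟨a, Subgroup.mem_sup_left ha⟩ : H) ∈ (P : Subgroup H) := by
          have e : (⟨a, Subgroup.mem_sup_left ha⟩ : H) = p * (⟨b, Subgroup.mem_sup_right hb⟩ : H)⁻¹ :=
            Subtype.ext (by
              show a = (p : X) * b⁻¹
              rw [← hab, mul_inv_cancel_right])
          rw [e]
          exact mul_mem hp (inv_mem hbP)
        obtain ⟨k, hk⟩ := P.isPGroup' ⟨_, haP⟩
        have hk' : a ^ 2 ^ k = 1 := congrArg (fun z : (P : Subgroup H) => ((z : H) : X)) hk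
        have h1 : orderOf a ∣ Nat.card K' := Subgroup.orderOf_dvd_natCard _ ha
        have h2 := orderOf_dvd_of_pow_eq_one hk'
        have : orderOf a = 1 := Nat.eq_one_of_dvd_coprimes
          (Nat.Coprime.pow_left k (Nat.coprime_two_left.2 hK)) h2 h1
        rw [orderOf_eq_one_iff] at this
        show (p : X) ∈ _
        rw [← hab, this, one_mul]
        exact hb
      · intro x hx
        exact ⟨⟨x, Subgroup.mem_sup_right hx⟩, hP (Subgroup.mem_subgroupOf.2 hx), rfl⟩
    obtain ⟨n, hn, a, ha, hna⟩ : ∃ n ∈ Subgroup.normalizer ((Subgroup.zpowers t : Subgroup X) : Set X),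
        ∃ a ∈ H, y = n * a := by
      have hy : y ∈ Subgroup.normalizer (((P : Subgroup H).map H.subtype : Subgroup X) : Set X) ⊔ H := by
        rw [show _ ⊔ H = ⊤ from hfr]; trivial
      rw [Subgroup.mem_sup_of_normal_right] at hy
      obtain ⟨n, hn, a, ha, e⟩ := hy
      exact ⟨n, hPeq ▸ hn, a, ha, e.symm⟩
    -- `n` centralizes `t`
    have hnt : n * t * n⁻¹ = t := by
      have := (Subgroup.mem_normalizer_iff.1 hn t).1 (Subgroup.mem_zpowers t)
      classical
      rw [mem_zpowers_iff_mem_range_orderOf, ht] at this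
      simp only [Finset.mem_image, Finset.mem_range] at this
      obtain ⟨i, hi, hit⟩ := this
      interval_cases i
      · rw [pow_zero] at hit
        exact absurd (conj_eq_one_iff.1 hit.symm) (invo_ne_one ht)
      · rw [pow_one] at hit
        exact hit.symm
    obtain ⟨k, hk⟩ := h t ht ⟨n, Subgroup.mem_centralizer_singleton_iff.2
      (mul_inv_eq_iff_eq_mul.1 hnt)⟩
    -- so `y` has two-power order in the quotient
    have hnk : n ^ 2 ^ k = 1 := congrArg Subtype.val hk
    obtain ⟨z, hz, hza⟩ : ∃ z ∈ Subgroup.zpowers t, (QuotientGroup.mk a : Q) = QuotientGroup.mk z := by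
      obtain ⟨c, hc', b, hb, hcb⟩ := Subgroup.mem_sup_of_normal_left.1 ha
      exact ⟨b, hb, by rw [← hcb, QuotientGroup.mk_mul, (QuotientGroup.eq_one_iff c).2 hc', one_mul]⟩
    obtain ⟨i, rfl⟩ := hz
    have hcz : Commute (QuotientGroup.mk n : Q) (QuotientGroup.mk (t ^ i)) := by
      rw [QuotientGroup.mk_zpow]
      exact ((hc _).zpow_left i).symm
    have hy2 : (QuotientGroup.mk y : Q) ^ 2 ^ (k + 1) = 1 := by
      rw [hna, QuotientGroup.mk_mul, hza, hcz.mul_pow, ← QuotientGroup.mk_pow,
        ← QuotientGroup.mk_pow, show n ^ 2 ^ (k + 1) = 1 by rw [pow_succ, pow_mul, hnk, one_pow],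
        show (t ^ i) ^ 2 ^ (k + 1) = 1 by
          rw [← zpow_natCast, ← zpow_mul, mul_comm, zpow_mul, zpow_natCast, pow_succ, pow_mul',
            show t ^ 2 = 1 by rw [← ht, pow_orderOf_eq_one], one_pow, one_zpow],
        QuotientGroup.mk_one, one_mul]
    have := orderOf_dvd_of_pow_eq_one hy2
    rw [hyb] at this
    exact hr2 ((Nat.prime_dvd_prime_iff_eq hr Nat.prime_two).1 (hr.dvd_of_dvd_pow this))
  haveI : Group.IsNilpotent Q := hQ.isNilpotent
  haveI : Group.IsSolvable Q := inferInstance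
  exact hns ((Group.isSolvable_iff_subgroup_quotient (Cfsg.pPrimeCore 2 X)).2 ⟨inferInstance, inferInstance⟩)

theorem hasFour (h : IsCIT X) (hns : ¬ Group.IsSolvable X) : HasFour X :=
  by_contra fun hno => hns (isSolvable_of_not_hasFour h hno)

/-- A nonsolvable CIT group has no nontrivial normal subgroup of odd order. -/
theorem odd_normal_eq_bot (h : IsCIT X) (hns : ¬ Group.IsSolvable X) {N : Subgroup X}
    (hN : N.Normal) (hodd : Odd (Nat.card N)) : N = ⊥ := by
  obtain ⟨s, t, hs, ht, hst, hc⟩ := hasFour h hns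
  exact eq_bot_of_four h hodd hs ht hst hc (fun x hx => hN.conj_mem x hx s)
    (fun x hx => hN.conj_mem x hx t)

/-- The quotient of a nonsolvable CIT group by its 2-core. -/
theorem quotient_core (h : IsCIT X) (hns : ¬ Group.IsSolvable X) [(Cfsg.pCore 2 X).Normal] :
    IsCIT (X ⧸ Cfsg.pCore 2 X) ∧ ¬ Group.IsSolvable (X ⧸ Cfsg.pCore 2 X) ∧
      Cfsg.pCore 2 (X ⧸ Cfsg.pCore 2 X) = ⊥ := by
  haveI : Fact (Nat.Prime 2) := ⟨Nat.prime_two⟩
  refine ⟨h.quotient PSolvable.pCore_isPGroup, fun hs => hns ?_, PSolvable.pCore_quotient_eq_bot⟩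
  haveI := hs
  haveI : Group.IsNilpotent ↥(Cfsg.pCore 2 X) := (PSolvable.pCore_isPGroup (p := 2) (G := X)).isNilpotent
  haveI : Group.IsSolvable ↥(Cfsg.pCore 2 X) := inferInstance
  exact (Group.isSolvable_iff_subgroup_quotient (Cfsg.pCore 2 X)).2 ⟨inferInstance, inferInstance⟩

/-- The minimal normal subgroup of a nonsolvable CIT group with trivial 2-core. -/
theorem exists_socle (h : IsCIT X) (hns : ¬ Group.IsSolvable X) (hcore : Cfsg.pCore 2 X = ⊥) :
    ∃ N : Subgroup X, N.Normal ∧ IsSimpleGroup N ∧ ¬ IsMulCommutative N ∧ IsCIT N ∧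
      HasFour N ∧ Subgroup.centralizer (N : Set X) = ⊥ := by
  haveI : Nontrivial X := by
    by_contra hn
    rw [not_nontrivial_iff_subsingleton] at hn
    exact hns inferInstance
  obtain ⟨N, hN, hne, -, hmin⟩ :=
    MinimalNormal.exists_minimal_normal_le (inferInstance : (⊤ : Subgroup X).Normal) top_ne_bot
  haveI := hN
  obtain ⟨hs, hna⟩ := isSimple_minimal h hcore (fun K hK => odd_normal_eq_bot h hns hK) hne hmin
  have hNs : ¬ Group.IsSolvable N := fun hsol => by
    haveI := hsol
    haveI := hs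
    exact hna ⟨⟨IsSimpleGroup.comm_iff_isSolvable.2 hsol⟩⟩
  refine ⟨N, hN, hs, hna, h.subgroup N, hasFour (h.subgroup N) hNs, ?_⟩
  haveI : Fact (Nat.Prime 2) := ⟨Nat.prime_two⟩
  set C := Subgroup.centralizer (N : Set X)
  haveI : C.Normal := inferInstance
  obtain ⟨s, hs2⟩ := exists_prime_orderOf_dvd_card' (G := N) 2 (even_card hNs)
  have hC2 : IsPGroup 2 C := (h (s : X) ((Subgroup.orderOf_coe s).trans hs2)).to_le
    (fun c hc => Subgroup.mem_centralizer_singleton_iff.2
      ((Subgroup.mem_centralizer_iff.1 hc (s : X) s.2).symm))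
  exact le_bot_iff.1 (hcore ▸ PSolvable.le_pCore hC2)

end Cfsg.Agent.Lib.CITGroups
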