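import Mathlib
import Cfsg.Prelude.Def_Sz
import Cfsg.Agent.Lib.CITGroups.Solvable
import Cfsg.Agent.Lib.CIT.Global
import Cfsg.Agent.Lib.CIT.LocalShape
import Cfsg.Agent.Lib.CIT.Plane
import Cfsg.Agent.Lib.SuzukiUniq.Zassenhaus
import Cfsg.Agent.Lib.LinGroup.Order
import Cfsg.Agent.Lib.PSLSpectrum.Spectrum

/-!
The structure of a nonsolvable CIT group with trivial 2-core, given the groups with a
self-centralizing four group: it is `PSL₂` or a Suzuki group, or it has the same prime divisors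
as a simple normal subgroup from a short list.
-/

set_option autoImplicit false

namespace Cfsg.Agent.Lib.CITGroups

open Cfsg.Agent.Lib.CIT Cfsg.Agent.Lib.SECount

universe u

/-- The simple CIT groups with a self-centralizing four group. -/
def FourList : Prop :=
  ∀ (N : Type u) [Group N] [Finite N] [IsSimpleGroup N], (∃ a b : N, a * b ≠ b * a) → IsCIT N →
    ∀ V : Subgroup N, Nat.card V = 4 → (∀ x ∈ V, x * x = 1) →
      Subgroup.centralizer (V : Set N) = V →
    ∃ (F : Type) (_ : Field F) (_ : Fintype F),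
      (Fintype.card F = 4 ∨ Fintype.card F = 9 ∨
        ((Fintype.card F).Prime ∧ ∃ k : ℕ, Fintype.card F = 2 ^ k + 1 ∨ Fintype.card F + 1 = 2 ^ k)) ∧
      Nonempty (N ≃* Matrix.ProjectiveSpecialLinearGroup (Fin 2) F)

variable {X : Type u} [Group X] [Finite X]

/-- The involutions of a strongly embedded subgroup of a simple normal subgroup show that nothing
lies outside it. -/
theorem eq_top_of_se (h : IsCIT X) {N : Subgroup X} [N.Normal] (hNc : IsCIT N) {M : Subgroup N}
    (hM : Cfsg.IsStronglyEmbedded M) (hF : HasFour N) : N = ⊤ := by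
  haveI : Fact (Nat.Prime 2) := ⟨Nat.prime_two⟩
  obtain ⟨D, u, S⟩ := exists_seData hNc hM hF
  obtain ⟨SU, hSU⟩ := S.sylow
  set U := core M with hU
  have hconjM : ∀ x : N, orderOf x = 2 → ∃ g : N, g * x * g⁻¹ ∈ M := by
    intro x hx
    have hz : IsPGroup 2 (Subgroup.zpowers x) :=
      IsPGroup.of_card (n := 1) (by rw [Nat.card_zpowers, hx, pow_one])
    obtain ⟨P, hP⟩ := hz.exists_le_sylow
    obtain ⟨g, hg⟩ := MulAction.exists_smul_eq N P SU
    refine ⟨g, S.le ?_⟩
    rw [← hSU, ← hg, Sylow.coe_subgroup_smul]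
    exact (Subgroup.mem_smul_pointwise_iff_exists _ _ _).2 ⟨x, hP (Subgroup.mem_zpowers x), rfl⟩
  -- trivially intersecting Sylow subgroups
  have hTI : TIData N := by
    refine ⟨fun P Q hPQ => ?_, ?_⟩
    · by_contra hne
      obtain ⟨t, ht, ht2⟩ := twoGroup_invo (P.isPGroup'.to_le inf_le_left) hne
      obtain ⟨gP, hgP⟩ := MulAction.exists_smul_eq N SU P
      obtain ⟨gQ, hgQ⟩ := MulAction.exists_smul_eq N SU Q
      have hcent : ∀ (W : Sylow 2 N) (g : N), g • SU = W → t ∈ (W : Subgroup N) →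
          Subgroup.centralizer ({t} : Set N) = (W : Subgroup N) := by
        intro W g hg htW
        rw [← hg, Sylow.coe_subgroup_smul, hSU] at htW ⊢
        obtain ⟨s, hs, hst⟩ := (Subgroup.mem_smul_pointwise_iff_exists _ _ _).1 htW
        have hst' : g * s * g⁻¹ = t := hst
        have hs2 : orderOf s = 2 := by rw [← ht2, ← hst', orderOf_conj_eq]
        have hC := S.centralizer_eq s hs2 (S.le hs)
        ext c
        rw [Subgroup.mem_centralizer_singleton_iff, Subgroup.mem_pointwise_smul_iff_inv_smul_mem,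
          ← hC, Subgroup.mem_centralizer_singleton_iff, ← hst']
        simp only [MulAut.smul_def, MulAut.conj_inv_apply]
        constructor
        · intro e
          calc g⁻¹ * c * g * s = g⁻¹ * (c * (g * s * g⁻¹)) * g := by group
            _ = s * (g⁻¹ * c * g) := by rw [e]; group
        · intro e
          calc c * (g * s * g⁻¹) = g * (g⁻¹ * c * g * s) * g⁻¹ := by group
            _ = g * s * g⁻¹ * c := by rw [e]; group
      exact hPQ (Sylow.ext ((hcent P gP hgP (Subgroup.mem_inf.1 ht).1).symm.trans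
        (hcent Q gQ hgQ (Subgroup.mem_inf.1 ht).2)))
    · obtain ⟨d, hd, hd1⟩ : ∃ d ∈ D, d ≠ 1 := by
        by_contra hc
        push Not at hc
        exact S.ne_bot ((Subgroup.eq_bot_iff_forall _).2 hc)
      have hnM : ∀ g : N, g ∈ Subgroup.normalizer (SU : Set N) ↔ g ∈ M := fun g => by
        rw [show (SU : Set N) = ((SU : Subgroup N) : Set N) from rfl, hSU, hU, S.normalizer_eq]
      have hfix : ∀ g : N, d • (g • SU) = g • SU ↔ g⁻¹ * d * g ∈ M := fun g => by
        rw [← hnM, ← Sylow.smul_eq_iff_mem_normalizer, mul_smul, mul_smul, inv_smul_eq_iff]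
      have hdodd : Odd (orderOf d) :=
        Odd.of_dvd_nat S.odd (Subgroup.orderOf_mk d hd ▸ orderOf_dvd_natCard (⟨d, hd⟩ : D))
      have hd' := S.eq_twoPt ▸ hd
      refine ⟨SU, u • SU, d, fun e => S.notMem ?_, hd1, hdodd, fun W => ⟨fun hW => ?_, ?_⟩⟩
      · rw [← hnM, ← Sylow.smul_eq_iff_mem_normalizer]
        exact e.symm
      · obtain ⟨g, rfl⟩ := MulAction.exists_smul_eq N SU W
        have hg := (hfix g).1 hW
        rcases S.fixed d hd hd1 (QuotientGroup.mk g) (smul_mk_eq_iff.2 hg) with e | e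
        · left
          rw [QuotientGroup.eq, mul_one] at e
          rw [Sylow.smul_eq_iff_mem_normalizer, hnM]
          exact M.inv_mem_iff.1 e
        · right
          have e' : g⁻¹ * u ∈ M := QuotientGroup.eq.1 e
          rw [← hnM, ← Sylow.smul_eq_iff_mem_normalizer, mul_smul, inv_smul_eq_iff] at e'
          exact e'.symm
      · rintro (rfl | rfl)
        · rw [Sylow.smul_eq_iff_mem_normalizer, hnM]
          exact (mem_twoPt.1 hd').1
        · exact (hfix u).2 (mem_twoPt.1 hd').2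
  have hsyl := sylow_le_of_tiData h hTI
  -- one class of involutions
  obtain ⟨t, ht, htM⟩ := exists_invo_mem hM
  have hcls : ∀ x : X, ∃ n ∈ N, ∃ c : X, c * (t : X) = (t : X) * c ∧ x = n * c := by
    intro x
    set t' : N := ⟨x * (t : X) * x⁻¹, ‹N.Normal›.conj_mem _ t.2 x⟩ with ht'def
    have ht' : orderOf t' = 2 := by
      rw [← Subgroup.orderOf_coe]
      show orderOf (x * (t : X) * x⁻¹) = 2
      rw [orderOf_conj_eq, Subgroup.orderOf_coe, ht]
    obtain ⟨g, hg⟩ := hconjM t' ht'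
    obtain ⟨d, -, hd⟩ := exists_conj_mem_inf hM S.invo S.notMem ((orderOf_conj_eq g t').trans ht') hg
      ht htM
    have e : ((d * g : N) : X) * (x * (t : X) * x⁻¹) * ((d * g : N) : X)⁻¹ = (t : X) := by
      have h1 := congrArg Subtype.val hd
      simp only [Subgroup.coe_mul, Subgroup.coe_inv, ht'def] at h1
      refine Eq.trans ?_ h1
      simp only [Subgroup.coe_mul]
      group
    refine ⟨((d * g : N) : X)⁻¹, N.inv_mem (d * g).2, ((d * g : N) : X) * x, ?_, by group⟩
    calc ((d * g : N) : X) * x * (t : X)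
        = (((d * g : N) : X) * (x * (t : X) * x⁻¹) * ((d * g : N) : X)⁻¹) * (((d * g : N) : X) * x) := by
          group
      _ = (t : X) * (((d * g : N) : X) * x) := by rw [e]
  rw [eq_top_iff]
  intro x _
  obtain ⟨n, hn, c, hc, rfl⟩ := hcls x
  refine N.mul_mem hn ?_
  obtain ⟨P, hP⟩ := (h (t : X) ((Subgroup.orderOf_coe t).trans ht)).exists_le_sylow
  exact hsyl P (hP (Subgroup.mem_centralizer_singleton_iff.2 hc))

/-- Odd prime divisors of the group divide a normal subgroup whose Sylow 2-subgroups have at most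
three central involutions and whose order is divisible by three. -/
theorem dvd_of_few_central (h : IsCIT X) (N : Subgroup X) [N.Normal] (h2 : 2 ∣ Nat.card N)
    (h3 : 3 ∣ Nat.card N)
    (hfew : ∃ S : Sylow 2 N, Nat.card {z : N // z ∈ (S : Subgroup N) ∧ orderOf z = 2 ∧
      ∀ s ∈ (S : Subgroup N), s * z = z * s} ≤ 3)
    {r : ℕ} (hr : r.Prime) (hr2 : r ≠ 2) (hrX : r ∣ Nat.card X) : r ∣ Nat.card N := by
  classical
  haveI := Fact.mk hr
  haveI : Fact (Nat.Prime 2) := ⟨Nat.prime_two⟩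
  by_contra hrN
  obtain ⟨S, hS⟩ := hfew
  set J := {z : N // z ∈ (S : Subgroup N) ∧ orderOf z = 2 ∧ ∀ s ∈ (S : Subgroup N), s * z = z * s}
  set T := Subgroup.normalizer (((S : Subgroup N).map N.subtype : Subgroup X) : Set X) with hT
  have hTN : T ⊔ N = ⊤ := Sylow.normalizer_sup_eq_top S
  have hrT : r ∣ Nat.card T := by
    have hQ : r ∣ Nat.card (X ⧸ N) := by
      rw [Subgroup.card_eq_card_quotient_mul_card_subgroup N] at hrX
      exact (hr.dvd_mul.1 hrX).resolve_right hrN
    refine hQ.trans (Subgroup.card_dvd_of_surjective ((QuotientGroup.mk' N).comp T.subtype) ?_)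
    intro q
    obtain ⟨x, rfl⟩ := QuotientGroup.mk_surjective q
    have hx : x ∈ T ⊔ N := hTN ▸ Subgroup.mem_top x
    rw [Subgroup.mem_sup_of_normal_right] at hx
    obtain ⟨a, ha, n, hn, rfl⟩ := hx
    exact ⟨⟨a, ha⟩, by simp [(QuotientGroup.eq_one_iff n).2 hn]⟩
  obtain ⟨⟨y, hyT⟩, hy⟩ := exists_prime_orderOf_dvd_card' (G := T) r hrT
  rw [Subgroup.orderOf_mk] at hy
  have hmemS : ∀ z : N, z ∈ (S : Subgroup N) ↔ (z : X) ∈ (S : Subgroup N).map N.subtype :=
    fun z => (Subgroup.mem_map_iff_mem N.subtype_injective).symm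
  have hyS : ∀ (g : T) (z : N), z ∈ (S : Subgroup N) →
      MulAut.conjNormal (g : X) z ∈ (S : Subgroup N) := fun g z hz => by
    rw [hmemS, MulAut.conjNormal_apply]
    exact (Subgroup.mem_normalizer_iff.1 g.2 _).1 ((hmemS z).1 hz)
  let σ : T → J → J := fun g z => ⟨MulAut.conjNormal (g : X) z.1, hyS g _ z.2.1,
    (MulEquiv.orderOf_eq _ _).trans z.2.2.1, fun s hs => by
      have h1 := congrArg (MulAut.conjNormal (g : X) : MulAut N)
        (z.2.2.2 (MulAut.conjNormal ((g⁻¹ : T) : X) s) (hyS g⁻¹ s hs))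
      rw [map_mul, map_mul, Subgroup.coe_inv, map_inv, MulAut.apply_inv_self] at h1
      exact h1⟩
  let ρ : T →* Equiv.Perm J :=
    { toFun := fun g => ⟨σ g, σ g⁻¹,
        fun z => Subtype.ext (by simp [σ, Subgroup.coe_inv, map_inv, MulAut.inv_apply_self]),
        fun z => Subtype.ext (by simp [σ, Subgroup.coe_inv, map_inv, MulAut.apply_inv_self])⟩
      map_one' := Equiv.ext fun z => Subtype.ext (by simp [σ])
      map_mul' := fun g g' => Equiv.ext fun z => Subtype.ext (by simp [σ, MulAut.mul_apply]) }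
  -- no fixed point
  have hnofix : ∀ z : J, ρ ⟨y, hyT⟩ z ≠ z := by
    intro z hz
    have e : y * (z.1 : X) * y⁻¹ = (z.1 : X) := by
      have := congrArg (fun w : J => ((w.1 : N) : X)) hz
      simpa [ρ, σ] using this
    have := h.eq_one_of_commute_invo ((Subgroup.orderOf_coe z.1).trans z.2.2.1)
      (hy ▸ hr.odd_of_ne_two hr2) (mul_inv_eq_iff_eq_mul.1 e).symm
    rw [this, orderOf_one] at hy
    exact hr.one_lt.ne hy
  obtain ⟨z0⟩ : Nonempty J := by
    have hne : (S : Subgroup N) ≠ ⊥ := S.ne_bot_of_dvd_card h2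
    haveI : Nontrivial (S : Subgroup N) := (Subgroup.nontrivial_iff_ne_bot _).2 hne
    haveI := S.isPGroup'.center_nontrivial
    obtain ⟨z, hz, hz2⟩ := twoGroup_invo (G := (S : Subgroup N))
      (S.isPGroup'.to_subgroup (Subgroup.center (S : Subgroup N)))
      ((Subgroup.nontrivial_iff_ne_bot _).1 inferInstance)
    exact ⟨⟨z, z.2, (Subgroup.orderOf_coe z).trans hz2, fun s hs =>
      congrArg Subtype.val (Subgroup.mem_center_iff.1 hz ⟨s, hs⟩)⟩⟩
  have hord : orderOf (ρ ⟨y, hyT⟩) = r := by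
    have hd := orderOf_map_dvd ρ ⟨y, hyT⟩
    rw [Subgroup.orderOf_mk, hy] at hd
    rcases (Nat.dvd_prime hr).1 hd with e | e
    · exact absurd (by rw [orderOf_eq_one_iff.1 e]; rfl) (hnofix z0)
    · exact e
  have hfac : r ∣ (Nat.card J).factorial := by
    rw [← hord, ← Nat.card_perm]
    exact orderOf_dvd_natCard _
  have hle := (hr.dvd_factorial).1 hfac
  have : r = 3 := by
    have := hr.two_le
    omega
  exact hrN (this ▸ h3)

omit [Finite X] in
theorem three_dvd_sub_mul_add {q : ℕ} (hq : ¬ 3 ∣ q) : 3 ∣ (q + 1) * (q - 1) := by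
  rcases (show q % 3 = 1 ∨ q % 3 = 2 by omega) with e | e
  · exact Dvd.dvd.mul_left (by omega) _
  · exact Dvd.dvd.mul_right (by omega) _

open Cfsg.Agent.Lib.SL2 in
theorem three_dvd_card_psl {F : Type} [Field F] [Fintype F] :
    3 ∣ Nat.card (Matrix.ProjectiveSpecialLinearGroup (Fin 2) F) := by
  show 3 ∣ Nat.card (PSLtwo F)
  have key : 3 ∣ Fintype.card F * ((Fintype.card F + 1) * (Fintype.card F - 1)) := by
    by_cases h : 3 ∣ Fintype.card F
    · exact Dvd.dvd.mul_right h _
    · exact Dvd.dvd.mul_left (three_dvd_sub_mul_add h) _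
  rcases Nat.even_or_odd (Fintype.card F) with he | ho
  · rwa [PSLSpectrum.card_psl_even he]
  · have := PSLSpectrum.card_psl_odd (F := F) ho
    have key' : 3 ∣ 2 * Nat.card (PSLtwo F) := this ▸ key
    exact (Nat.Coprime.dvd_of_dvd_mul_left (by norm_num) key')

/-- The possible structures of a nonsolvable CIT group with trivial 2-core. -/
theorem coreless_cases (hL : FourList.{u}) (h : IsCIT X) (hns : ¬ Group.IsSolvable X)
    (hcore : Cfsg.pCore 2 X = ⊥) :
    ((∃ (F : Type) (_ : Field F) (_ : Fintype F),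
        Nonempty (X ≃* Matrix.ProjectiveSpecialLinearGroup (Fin 2) F)) ∨ Cfsg.Lie.IsoSuzuki X) ∨
    ∃ N : Subgroup X, N.Normal ∧ IsSimpleGroup N ∧ Subgroup.centralizer (N : Set X) = ⊥ ∧
      (∀ r : ℕ, r.Prime → r ≠ 2 → r ∣ Nat.card X → r ∣ Nat.card N) ∧ 3 ∣ Nat.card N ∧
      ((∃ (F : Type) (_ : Field F) (_ : Fintype F),
        (Fintype.card F = 4 ∨ Fintype.card F = 9 ∨
          ((Fintype.card F).Prime ∧ ∃ k : ℕ, Fintype.card F = 2 ^ k + 1 ∨ Fintype.card F + 1 = 2 ^ k)) ∧
        Nonempty (N ≃* Matrix.ProjectiveSpecialLinearGroup (Fin 2) F)) ∨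
      (∃ (F : Type) (_ : Field F) (_ : Fintype F), Fintype.card F = 4 ∧
        Nonempty (N ≃* Matrix.ProjectiveSpecialLinearGroup (Fin 3) F))) := by
  obtain ⟨N, hN, hsimp, hna, hNc, hF, hC⟩ := exists_socle h hns hcore
  haveI := hN
  haveI := hsimp
  have hab : ∃ a b : N, a * b ≠ b * a := by
    by_contra! hh
    exact hna ⟨⟨hh⟩⟩
  have hNs : ¬ Group.IsSolvable N := fun hs =>
    hna ⟨⟨IsSimpleGroup.comm_iff_isSolvable.2 hs⟩⟩
  rcases global_outcome hab (even_card hNs) hNc (localShape hNc) with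
    ⟨M, hM⟩ | ⟨V, hV4, hVsq, hVC⟩ | hflag
  · left
    have hNtop := eq_top_of_se h hNc hM hF
    have e : N ≃* X := (MulEquiv.subgroupCongr hNtop).trans Subgroup.topEquiv
    rcases SuzukiUniq.psl_or_isoSuzuki (isZassenhausGroup_quot hNc hM hF) with
      ⟨F, iF, iFF, ⟨i⟩⟩ | ⟨F, iF, iFF, m, hm, hFc, ⟨i⟩⟩
    · exact Or.inl ⟨F, iF, iFF, ⟨e.symm.trans i⟩⟩
    · exact Or.inr ⟨F, iF, iFF, m, hm, hFc, ⟨e.symm.trans i⟩⟩
  · right
    obtain ⟨F, iF, iFF, hFl, ⟨i⟩⟩ := hL N hab hNc V hV4 hVsq hVC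
    have h3 : 3 ∣ Nat.card N := by rw [Nat.card_congr i.toEquiv]; exact three_dvd_card_psl
    refine ⟨N, hN, hsimp, hC, fun r hr hr2 hrX => dvd_of_few_central h N (even_card hNs) h3 ?_ hr hr2 hrX,
      h3, Or.inl ⟨F, iF, iFF, hFl, ⟨i⟩⟩⟩
    haveI : Fact (Nat.Prime 2) := ⟨Nat.prime_two⟩
    obtain ⟨S, hS⟩ := (IsPGroup.of_card (p := 2) (G := V) (n := 2) (by rw [hV4]; norm_num)).exists_le_sylow
    refine ⟨S, ?_⟩
    have : Nat.card {x : V // x ≠ 1} = 3 := by
      classical
      letI := Fintype.ofFinite V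
      rw [Nat.card_eq_fintype_card, Fintype.card_subtype_compl, Fintype.card_subtype_eq,
        ← Nat.card_eq_fintype_card, hV4]
    rw [← this]
    refine Nat.card_le_card_of_injective (fun z => ⟨⟨z.1, ?_⟩, fun e => ?_⟩) fun a b e => ?_
    · rw [← hVC]
      exact Subgroup.mem_centralizer_iff.2 fun v hv => z.2.2.2 v (hS hv)
    · have h1 : (z.1 : N) = 1 := congrArg Subtype.val e
      exact invo_ne_one z.2.2.1 h1
    · exact Subtype.ext (congrArg (fun w : {x : V // x ≠ 1} => ((w : V) : N)) e)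
  · right
    have hflag' := hflag
    obtain ⟨F, iF, iFF, hF4, ⟨i⟩⟩ := Plane.isPSL34 hNc hflag
    have h3 : 3 ∣ Nat.card N := by
      have hcard := LinGroup.card_PSL_mul (F := F) 3 (by norm_num)
      rw [Fin.prod_univ_three, hF4] at hcard
      norm_num at hcard
      rw [Nat.card_congr i.toEquiv]
      omega
    refine ⟨N, hN, hsimp, hC, fun r hr hr2 hrX => dvd_of_few_central h N (even_card hNs) h3 ?_ hr hr2 hrX,
      h3, Or.inr ⟨F, iF, iFF, hF4, ⟨i⟩⟩⟩
    obtain ⟨S, V, A, hf⟩ := hflag'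
    refine ⟨S, ?_⟩
    have hZ : ∀ z : N, z ∈ (S : Subgroup N) → orderOf z = 2 →
        (∀ s ∈ (S : Subgroup N), s * z = z * s) → z ∈ V ⊓ A := by
      have key : ∀ (B C : Subgroup N), B ≤ (S : Subgroup N) → (∀ x ∈ B, x * x = 1) →
          Nat.card (B ⊓ C : Subgroup N) = 4 → Nat.card B = 16 →
          (∀ x ∈ (S : Subgroup N), x * x = 1 → x ∈ C ∨ x ∈ B) →
          ∀ z ∈ C, z * z = 1 → (∀ s ∈ (S : Subgroup N), s * z = z * s) → z ∈ (S : Subgroup N) → z ∈ B := by
        intro B C hBS hBsq hBC hB hcov z hzC hz2 hzc hzS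
        by_contra hzB
        obtain ⟨a, ha, haC⟩ : ∃ a ∈ B, a ∉ C := by
          by_contra hall
          push Not at hall
          rw [inf_eq_left.2 hall, hB] at hBC
          omega
        have haz : a * z * (a * z) = 1 := by
          calc a * z * (a * z) = a * (z * a) * z := by group
            _ = a * a * (z * z) := by rw [← hzc a (hBS ha)]; group
            _ = 1 := by rw [hBsq a ha, hz2, one_mul]
        rcases hcov (a * z) ((S : Subgroup N).mul_mem (hBS ha) hzS) haz with e | e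
        · exact haC (by simpa using C.mul_mem e (C.inv_mem hzC))
        · exact hzB (by simpa using B.mul_mem (B.inv_mem ha) e)
      intro z hzS hz2 hzc
      have hzz := invo_sq hz2
      rcases hf.cover z hzS hzz with e | e
      · exact Subgroup.mem_inf.2 ⟨e, key A V hf.right_le hf.sq_right (by rw [inf_comm]; exact hf.card_inf)
          hf.card_right hf.cover z e hzz hzc hzS⟩
      · exact Subgroup.mem_inf.2 ⟨key V A hf.left_le hf.sq_left hf.card_inf hf.card_left
          (fun x hx hx2 => (hf.cover x hx hx2).symm) z e hzz hzc hzS, e⟩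
    have : Nat.card {x : (V ⊓ A : Subgroup N) // x ≠ 1} = 3 := by
      classical
      letI := Fintype.ofFinite (V ⊓ A : Subgroup N)
      rw [Nat.card_eq_fintype_card, Fintype.card_subtype_compl, Fintype.card_subtype_eq,
        ← Nat.card_eq_fintype_card, hf.card_inf]
    rw [← this]
    refine Nat.card_le_card_of_injective
      (fun z => ⟨⟨z.1, hZ _ z.2.1 z.2.2.1 z.2.2.2⟩, fun e => ?_⟩) fun a b e => ?_
    · have h1 : (z.1 : N) = 1 := congrArg Subtype.val e
      exact invo_ne_one z.2.2.1 h1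
    · exact Subtype.ext
        (congrArg (fun w : {x : (V ⊓ A : Subgroup N) // x ≠ 1} => ((w : (V ⊓ A : Subgroup N)) : N)) e)

end Cfsg.Agent.Lib.CITGroups
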