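import Mathlib
import Cfsg.Agent.Lib.CITGroups.Coreless
import Cfsg.Agent.Lib.CITGroups.Arith
import Cfsg.Agent.Lib.PrimeGraph.SolvableTriple
import Cfsg.Agent.Lib.Perm.ProjCongr
import Cfsg.Agent.Lib.SuzukiUniq.Final
import Cfsg.Agent.Lib.Suzuki.Centralizers

/-!
Recognition of `PSL₂(2^m)` and of the Suzuki groups by their prime graphs.
-/

set_option autoImplicit false

namespace Cfsg.Agent.Lib.CITGroups

open Cfsg.Agent.Lib.CIT Cfsg.Agent.Lib.SL2

universe u v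

/-- A group without elements of order twice an odd prime is a CIT group. -/
theorem isCIT_of_no_two {G : Type*} [Group G] [Finite G]
    (h : ∀ r : ℕ, r.Prime → r ≠ 2 → ∀ y : G, orderOf y ≠ 2 * r) : IsCIT G := by
  haveI : Fact (Nat.Prime 2) := ⟨Nat.prime_two⟩
  intro t ht
  rw [IsPGroup.iff_card]
  refine ⟨_, Nat.eq_prime_pow_of_unique_prime_dvd Nat.card_pos.ne' fun {r} hr hrd => ?_⟩
  by_contra hr2
  haveI := Fact.mk hr
  obtain ⟨c, hc⟩ := exists_prime_orderOf_dvd_card' r hrd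
  have hco : orderOf (c : G) = r := (Subgroup.orderOf_coe c).trans hc
  refine h r hr hr2 (t * c) ?_
  have hcomm : Commute t (c : G) := (Subgroup.mem_centralizer_singleton_iff.1 c.2).symm
  rw [hcomm.orderOf_mul_eq_mul_orderOf_of_coprime (by
    rw [ht, hco]; exact (Nat.coprime_primes Nat.prime_two hr).2 (Ne.symm hr2)), ht, hco]

theorem no_two_of_isCIT {G : Type*} [Group G] [Finite G] (h : IsCIT G) {r : ℕ} (hr : r.Prime)
    (hr2 : r ≠ 2) (y : G) : orderOf y ≠ 2 * r := by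
  intro hy
  have h1 : orderOf (y ^ r) = 2 := by
    rw [orderOf_pow_of_dvd hr.ne_zero (hy ▸ dvd_mul_left r 2), hy, Nat.mul_div_cancel _ hr.pos]
  have h2 : orderOf (y ^ 2) = r := by
    rw [orderOf_pow_of_dvd two_ne_zero (hy ▸ dvd_mul_right 2 r), hy,
      Nat.mul_div_cancel_left _ two_pos]
  have := h.eq_one_of_commute (x := y ^ r) (y := y ^ 2) (k := 1)
    (by rw [pow_one, ← h1]; exact pow_orderOf_eq_one _)
    (fun e => by rw [e, orderOf_one] at h1; omega)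
    (h2 ▸ hr.odd_of_ne_two hr2) (Commute.pow_pow_self y r 2).eq
  rw [this, orderOf_one] at h2
  exact hr.ne_one h2.symm

/-- Three primes dividing the order with no edge between them rule out solvability. -/
theorem not_solvable_of_triple {G : Type*} [Group G] [Finite G] {p q r : ℕ} (hp : p.Prime)
    (hq : q.Prime) (hr : r.Prime) (hpq : p ≠ q) (hpr : p ≠ r) (hqr : q ≠ r)
    (h1 : p ∣ Nat.card G) (h2 : q ∣ Nat.card G) (h3 : r ∣ Nat.card G)
    (e1 : ∀ g : G, orderOf g ≠ p * q) (e2 : ∀ g : G, orderOf g ≠ p * r)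
    (e3 : ∀ g : G, orderOf g ≠ q * r) : ¬ Group.IsSolvable G := fun hs => by
  rcases PrimeGraph.solvable_triple hp hq hr hpq hpr hqr _ G rfl hs h1 h2 h3 with
    ⟨g, hg⟩ | ⟨g, hg⟩ | ⟨g, hg⟩
  · exact e1 g hg
  · exact e2 g hg
  · exact e3 g hg

/-- The quotient by the 2-core. -/
theorem core_data {G : Type*} [Group G] [Finite G] (h : IsCIT G) (hns : ¬ Group.IsSolvable G) :
    IsCIT (G ⧸ Cfsg.pCore 2 G) ∧ ¬ Group.IsSolvable (G ⧸ Cfsg.pCore 2 G) ∧
      Cfsg.pCore 2 (G ⧸ Cfsg.pCore 2 G) = ⊥ ∧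
      ∀ r : ℕ, r.Prime → r ≠ 2 → (r ∣ Nat.card (G ⧸ Cfsg.pCore 2 G) ↔ r ∣ Nat.card G) := by
  haveI : Fact (Nat.Prime 2) := ⟨Nat.prime_two⟩
  obtain ⟨h1, h2, h3⟩ := quotient_core h hns
  refine ⟨h1, h2, h3, fun r hr hr2 => ?_⟩
  rw [Subgroup.card_eq_card_quotient_mul_card_subgroup (Cfsg.pCore 2 G)]
  refine ⟨fun hd => hd.mul_right _, fun hd => (hr.dvd_mul.1 hd).resolve_right fun hc => hr2 ?_⟩
  obtain ⟨k, hk⟩ := IsPGroup.iff_card.1 (PSolvable.pCore_isPGroup (p := 2) (G := G))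
  rw [hk] at hc
  exact (Nat.prime_dvd_prime_iff_eq hr Nat.prime_two).1 (hr.dvd_of_dvd_pow hc)

theorem nonempty_psl_equiv {F : Type u} [Field F] [Fintype F] {F' : Type v} [Field F'] [Fintype F']
    (h : Fintype.card F = Fintype.card F') :
    Nonempty (Matrix.ProjectiveSpecialLinearGroup (Fin 2) F ≃*
      Matrix.ProjectiveSpecialLinearGroup (Fin 2) F') :=
  Perm.ProjCongr.nonempty_psl _ (FiniteField.ringEquivOfCardEq h)

/-! ### The groups `PSL₂(q)` -/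

section PSL

variable {F : Type*} [Field F] [Fintype F]

theorem dvd_card_psl_even {r m : ℕ} (hm : 0 < m) (hF : Fintype.card F = 2 ^ m) (hr : r.Prime)
    (hr2 : r ≠ 2) :
    r ∣ Nat.card (Matrix.ProjectiveSpecialLinearGroup (Fin 2) F) ↔ r ∣ 2 ^ (2 * m) - 1 := by
  show r ∣ Nat.card (PSLtwo F) ↔ _
  rw [PSLSpectrum.card_psl_even (hF ▸ even_two.pow_of_ne_zero hm.ne'), hF,
    show (2 ^ m + 1) * (2 ^ m - 1) = 2 ^ (2 * m) - 1 by
      rw [← Nat.sq_sub_sq, one_pow, ← pow_mul, mul_comm m 2]]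
  refine ⟨fun h => (hr.dvd_mul.1 h).resolve_left fun h' => hr2 ?_, fun h => h.mul_left _⟩
  exact (Nat.prime_dvd_prime_iff_eq hr Nat.prime_two).1 (hr.dvd_of_dvd_pow h')

theorem dvd_card_psl {r : ℕ} (hr : r.Prime) (hr2 : r ≠ 2) :
    r ∣ Nat.card (Matrix.ProjectiveSpecialLinearGroup (Fin 2) F) ↔
      r ∣ Fintype.card F * ((Fintype.card F + 1) * (Fintype.card F - 1)) := by
  show r ∣ Nat.card (PSLtwo F) ↔ _
  rcases Nat.even_or_odd (Fintype.card F) with he | ho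
  · rw [PSLSpectrum.card_psl_even he]
  · rw [← PSLSpectrum.card_psl_odd ho, hr.dvd_mul]
    exact ⟨Or.inr, fun h => h.resolve_left fun h' =>
      hr2 ((Nat.prime_dvd_prime_iff_eq hr Nat.prime_two).1 h')⟩

/-- An odd field whose `PSL₂` is a CIT group. -/
theorem odd_field_of_cit (h : IsCIT (Matrix.ProjectiveSpecialLinearGroup (Fin 2) F))
    (hodd : Odd (Fintype.card F)) :
    Fintype.card F = 9 ∨ ((Fintype.card F).Prime ∧
      ∃ k : ℕ, Fintype.card F = 2 ^ k + 1 ∨ Fintype.card F + 1 = 2 ^ k) := by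
  have h2 : Nat.gcd 2 (Fintype.card F - 1) = 2 := by
    obtain ⟨k, hk⟩ := hodd
    exact Nat.gcd_eq_left ⟨k, by omega⟩
  have h1 : 1 < Fintype.card F := Fintype.one_lt_card
  obtain ⟨p, hp⟩ := CharP.exists F
  obtain ⟨⟨e, he⟩, hpp, hpe⟩ := FiniteField.card F p
  simp only [PNat.mk_coe] at hpe
  have hp2 : p ≠ 2 := by
    rintro rfl
    rw [hpe] at hodd
    exact (Nat.not_even_iff_odd.2 hodd) (even_two.pow_of_ne_zero he.ne')
  have hp3 : 3 ≤ p := by have := hpp.two_le; omega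
  have hpodd : Odd p := hpp.odd_of_ne_two hp2
  have key : ∀ n, Even n → 0 < n → (∃ x : PSLtwo F, orderOf x = n) → ∃ k, n = 2 ^ k := by
    rintro n hn hn0 ⟨x, hx⟩
    refine ⟨_, Nat.eq_prime_pow_of_unique_prime_dvd hn0.ne' fun {r} hr hrd => ?_⟩
    by_contra hr2
    have hd : 2 * r ∣ orderOf x := hx ▸ Nat.Coprime.mul_dvd_of_dvd_of_dvd
      ((Nat.coprime_primes Nat.prime_two hr).2 (Ne.symm hr2)) (even_iff_two_dvd.1 hn) hrd
    exact no_two_of_isCIT h hr hr2 (x ^ (orderOf x / (2 * r)))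
      (orderOf_pow_orderOf_div (orderOf_pos x).ne' hd)
  obtain ⟨t, ht⟩ := hodd
  rcases Nat.even_or_odd t with ⟨a, ha⟩ | ⟨a, ha⟩
  · have hm := PSLSpectrum.exists_orderOf_psl_minus (F := F) (by omega)
    rw [h2, show (Fintype.card F - 1) / 2 = t by omega] at hm
    obtain ⟨k, hk⟩ := key t ⟨a, ha⟩ (by omega) hm
    have hq : Fintype.card F = 2 ^ (k + 1) + 1 := by rw [pow_succ]; omega
    rcases eq_one_of_eq_add_one hp3 hpodd he (hpe.symm.trans hq) with e1 | e9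
    · exact Or.inr ⟨by rw [hpe, e1, pow_one]; exact hpp, k + 1, Or.inl hq⟩
    · exact Or.inl (hpe.trans e9)
  · have hp' := PSLSpectrum.exists_orderOf_psl_plus (F := F)
    rw [h2, show (Fintype.card F + 1) / 2 = t + 1 by omega] at hp'
    obtain ⟨k, hk⟩ := key (t + 1) ⟨a + 1, by omega⟩ (by omega) hp'
    have hq : Fintype.card F + 1 = 2 ^ (k + 1) := by rw [pow_succ]; omega
    refine Or.inr ⟨?_, k + 1, Or.inr hq⟩
    rw [hpe] at hq ⊢
    rw [eq_one_of_pow_add_one hp3 hpodd he hq, pow_one]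
    exact hpp

theorem gcd_two_pow_sub_one {m : ℕ} (hm : 0 < m) : Nat.gcd 2 (2 ^ m - 1) = 1 := by
  obtain ⟨k, rfl⟩ := Nat.exists_eq_succ_of_ne_zero hm.ne'
  have := Nat.one_le_two_pow (n := k)
  rw [Nat.gcd_rec, pow_succ, show (2 ^ k * 2 - 1) % 2 = 1 by omega]
  rfl

/-- The element orders of `PSL₂(2^m)`. -/
theorem orderOf_psl_two_pow {m : ℕ} (hm : 0 < m) (hF : Fintype.card F = 2 ^ m)
    (x : Matrix.ProjectiveSpecialLinearGroup (Fin 2) F) :
    orderOf x = 2 ∨ orderOf x ∣ 2 ^ m - 1 ∨ orderOf x ∣ 2 ^ m + 1 := by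
  obtain ⟨p, hp⟩ := CharP.exists F
  obtain ⟨⟨e, he⟩, hpp, hpe⟩ := FiniteField.card F p
  simp only [PNat.mk_coe] at hpe
  obtain rfl : p = 2 := by
    have h : p ∣ 2 ^ m := hF ▸ hpe ▸ dvd_pow_self p he.ne'
    exact (Nat.prime_dvd_prime_iff_eq hpp Nat.prime_two).1 (hpp.dvd_of_dvd_pow h)
  haveI := Fact.mk hpp
  rcases PSLSpectrum.orderOf_psl_cases 2 x with h | h | h
  · exact Or.inl h
  · rw [hF, gcd_two_pow_sub_one hm, Nat.div_one] at h
    exact Or.inr (Or.inl h)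
  · rw [hF, gcd_two_pow_sub_one hm, Nat.div_one] at h
    exact Or.inr (Or.inr h)

end PSL

/-- A group with the prime graph of `PSL₂(2^m)`, `m ≥ 4`. -/
theorem psl_even_recog (hL : FourList.{u}) {F : Type v} [Field F] [Fintype F] {m : ℕ} (hm : 4 ≤ m)
    (hF : Fintype.card F = 2 ^ m) {G : Type u} [Group G] [Finite G]
    (h1 : ∀ r : ℕ, r.Prime →
      (r ∣ Nat.card (Matrix.ProjectiveSpecialLinearGroup (Fin 2) F) ↔ r ∣ Nat.card G))
    (h2 : ∀ r s : ℕ, r.Prime → s.Prime → r ≠ s → (∃ y : G, orderOf y = r * s) →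
      ∃ x : Matrix.ProjectiveSpecialLinearGroup (Fin 2) F, orderOf x = r * s) :
    Nonempty (G ⧸ Cfsg.pCore 2 G ≃* Matrix.ProjectiveSpecialLinearGroup (Fin 2) F) := by
  have hodd1 : ¬ 2 ∣ 2 ^ m - 1 := odd_two_pow_sub_one (by omega)
  have hodd2 : ¬ 2 ∣ 2 ^ m + 1 := by
    obtain ⟨k, rfl⟩ : ∃ k, m = k + 1 := ⟨m - 1, by omega⟩
    rw [pow_succ]; omega
  have hno2 : ∀ r : ℕ, r.Prime → r ≠ 2 → ∀ y : G, orderOf y ≠ 2 * r := by
    intro r hr hr2 y hy
    obtain ⟨x, hx⟩ := h2 2 r Nat.prime_two hr (Ne.symm hr2) ⟨y, hy⟩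
    rcases orderOf_psl_two_pow (by omega) hF x with h | h | h
    · rw [h] at hx; have := hr.two_le; omega
    · rw [hx] at h; exact hodd1 ((dvd_mul_right 2 r).trans h)
    · rw [hx] at h; exact hodd2 ((dvd_mul_right 2 r).trans h)
  have hCIT : IsCIT G := isCIT_of_no_two hno2
  have hdvd : ∀ r : ℕ, r.Prime → r ≠ 2 → (r ∣ Nat.card G ↔ r ∣ 2 ^ (2 * m) - 1) := fun r hr hr2 =>
    (h1 r hr).symm.trans (dvd_card_psl_even (by omega) hF hr hr2)
  have hns : ¬ Group.IsSolvable G := by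
    have h16 : 2 ^ 4 ≤ 2 ^ m := Nat.pow_le_pow_right (by norm_num) hm
    obtain ⟨r, hr, hrd⟩ := Nat.exists_prime_and_dvd (show 2 ^ m - 1 ≠ 1 by omega)
    obtain ⟨s, hs, hsd⟩ := Nat.exists_prime_and_dvd (show 2 ^ m + 1 ≠ 1 by omega)
    have hr2 : r ≠ 2 := fun e => hodd1 (e ▸ hrd)
    have hs2 : s ≠ 2 := fun e => hodd2 (e ▸ hsd)
    have hex : ¬ (r ∣ 2 ^ m + 1) := fun h => hr2 ((Nat.prime_dvd_prime_iff_eq hr Nat.prime_two).1 (by
      have := Nat.dvd_sub h hrd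
      rwa [show 2 ^ m + 1 - (2 ^ m - 1) = 2 by omega] at this))
    have hex' : ¬ (s ∣ 2 ^ m - 1) := fun h => hs2 ((Nat.prime_dvd_prime_iff_eq hs Nat.prime_two).1 (by
      have := Nat.dvd_sub hsd h
      rwa [show 2 ^ m + 1 - (2 ^ m - 1) = 2 by omega] at this))
    have hrs : r ≠ s := fun e => hex (e ▸ hsd)
    refine not_solvable_of_triple Nat.prime_two hr hs (Ne.symm hr2) (Ne.symm hs2) hrs ?_
      ((hdvd r hr hr2).2 (hrd.trans (two_pow_sub_one_dvd' m)))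
      ((hdvd s hs hs2).2 (hsd.trans (two_pow_add_one_dvd m))) (hno2 r hr hr2) (hno2 s hs hs2) ?_
    · refine (h1 2 Nat.prime_two).1 ?_
      show 2 ∣ Nat.card (PSLtwo F)
      rw [PSLSpectrum.card_psl_even (hF ▸ even_two.pow_of_ne_zero (by omega)), hF]
      exact (dvd_pow_self 2 (by omega)).mul_right _
    · intro g hg
      obtain ⟨x, hx⟩ := h2 r s hr hs hrs ⟨g, hg⟩
      rcases orderOf_psl_two_pow (by omega) hF x with h | h | h
      · rw [h] at hx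
        exact hr2 ((Nat.prime_dvd_prime_iff_eq hr Nat.prime_two).1 (hx ▸ dvd_mul_right r s))
      · rw [hx] at h; exact hex' ((dvd_mul_left s r).trans h)
      · rw [hx] at h; exact hex ((dvd_mul_right r s).trans h)
  obtain ⟨hXc, hXns, hXcore, hXd⟩ := core_data hCIT hns
  have hX : ∀ r : ℕ, r.Prime → r ≠ 2 →
      (r ∣ Nat.card (G ⧸ Cfsg.pCore 2 G) ↔ r ∣ 2 ^ (2 * m) - 1) := fun r hr hr2 =>
    (hXd r hr hr2).trans (hdvd r hr hr2)
  rcases coreless_cases hL hXc hXns hXcore with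
    (⟨F', iF, iFF, ⟨e⟩⟩ | ⟨F', iF, iFF, n, hn, hF', ⟨e⟩⟩) |
    ⟨N, hN, hNs, hNC, hNd, hN3, hNl⟩
  · have hX' : ∀ r : ℕ, r.Prime → r ≠ 2 →
        (r ∣ Fintype.card F' * ((Fintype.card F' + 1) * (Fintype.card F' - 1)) ↔
          r ∣ 2 ^ (2 * m) - 1) := fun r hr hr2 => by
      rw [← dvd_card_psl hr hr2, ← Nat.card_congr e.toEquiv]
      exact hX r hr hr2
    rcases Nat.even_or_odd (Fintype.card F') with hev | hodd
    · obtain ⟨p, hp⟩ := CharP.exists F'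
      obtain ⟨⟨n, hn⟩, hpp, hpe⟩ := FiniteField.card F' p
      simp only [PNat.mk_coe] at hpe
      obtain rfl : p = 2 := ((Nat.prime_dvd_prime_iff_eq Nat.prime_two hpp).1
        (Nat.prime_two.dvd_of_dvd_pow (n := n) (hpe ▸ even_iff_two_dvd.1 hev))).symm
      have hnm : n = m := psl_param_eq hm (fun r hr hr2 => by
        rw [← hX r hr hr2, Nat.card_congr e.toEquiv, dvd_card_psl_even hn hpe hr hr2]) hn
      obtain ⟨i⟩ := nonempty_psl_equiv (F := F') (F' := F) (by rw [hpe, hF, hnm])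
      exact ⟨e.trans i⟩
    · exfalso
      have hc' : IsCIT (Matrix.ProjectiveSpecialLinearGroup (Fin 2) F') :=
        isCIT_of_no_two fun r hr hr2 y hy =>
          no_two_of_isCIT hXc hr hr2 (e.symm y) ((MulEquiv.orderOf_eq _ _).trans hy)
      refine not_list hm ?_ (fun hq hq2 => (hX' _ hq hq2).1 (Dvd.intro _ rfl))
        (fun r hr hr2 hd => (hX' r hr hr2).2 hd)
      rcases odd_field_of_cit hc' hodd with h | h
      · exact Or.inr (Or.inl h)
      · exact Or.inr (Or.inr h)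
  · exfalso
    have h3 : 3 ∣ 2 ^ (2 * m) - 1 := by
      simpa using Nat.pow_sub_one_dvd_pow_sub_one 2 (dvd_mul_right 2 m)
    have h3' := (hX 3 Nat.prime_three (by norm_num)).2 h3
    rw [Nat.card_congr e.toEquiv,
      ← Nat.card_congr (SuzukiSp4.szEquiv (⟨hn, hF'⟩ : Suzuki.Hyp F' n)).toEquiv] at h3'
    exact Suzuki.three_not_dvd_card ⟨hn, hF'⟩ h3'
  · exfalso
    have hsub : ∀ r : ℕ, r.Prime → r ∣ Nat.card N → r ∣ Nat.card (G ⧸ Cfsg.pCore 2 G) :=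
      fun r _ hd => hd.trans (Subgroup.card_subgroup_dvd_card N)
    rcases hNl with ⟨F', iF, iFF, hq, ⟨e⟩⟩ | ⟨F', iF, iFF, hq, ⟨e⟩⟩
    · refine not_list hm hq (fun hqp hq2 => (hX _ hqp hq2).1 (hsub _ hqp ?_))
        (fun r hr hr2 hd => ?_)
      · rw [Nat.card_congr e.toEquiv, dvd_card_psl hqp hq2]
        exact Dvd.intro _ rfl
      · rw [← dvd_card_psl hr hr2, ← Nat.card_congr e.toEquiv]
        exact hNd r hr hr2 ((hX r hr hr2).2 hd)
    · obtain ⟨r, hr⟩ := exists_prim (n := 2 * m) (by omega) (by omega)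
      have hlt := hr.lt (by omega)
      have hrN := hNd r hr.1 (hr.ne_two (by omega)) ((hX r hr.1 (hr.ne_two (by omega))).2 hr.2.1)
      rw [Nat.card_congr e.toEquiv] at hrN
      have hc := LinGroup.card_PSL_mul (F := F') 3 (by norm_num)
      rw [hq] at hc
      simp [Fin.prod_univ_three] at hc
      have h7 : r ∣ 2 ^ 6 * 3 ^ 4 * 5 * 7 := by
        refine hrN.trans ⟨9, ?_⟩
        omega
      rcases hr.1.dvd_mul.1 h7 with h | h
      · rcases hr.1.dvd_mul.1 h with h | h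
        · rcases hr.1.dvd_mul.1 h with h | h
          · have := Nat.le_of_dvd (by norm_num) (hr.1.dvd_of_dvd_pow h); omega
          · have := Nat.le_of_dvd (by norm_num) (hr.1.dvd_of_dvd_pow h); omega
        · have := Nat.le_of_dvd (by norm_num) h; omega
      · have := Nat.le_of_dvd (by norm_num) h; omega

/-! ### The Suzuki groups -/

section Sz

variable {F : Type*} [Field F] [Fintype F] {m : ℕ} (hH : Suzuki.Hyp F m)
include hH

theorem dvd_card_sz {r : ℕ} (hr : r.Prime) (hr2 : r ≠ 2) :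
    r ∣ Nat.card ↥(Cfsg.Lie.Sz F (2 ^ (m + 1))) ↔
      r ∣ ((2 ^ (2 * m + 1)) ^ 2 + 1) * (2 ^ (2 * m + 1) - 1) := by
  rw [← Nat.card_congr (SuzukiSp4.szEquiv hH).toEquiv, Suzuki.card_Sz hH, hH.hF, mul_assoc]
  refine ⟨fun h => (hr.dvd_mul.1 h).resolve_left fun h' => hr2 ?_, fun h => h.mul_left _⟩
  exact (Nat.prime_dvd_prime_iff_eq hr Nat.prime_two).1 (hr.dvd_of_dvd_pow (hr.dvd_of_dvd_pow h'))

/-- The elements of prime order of the stabiliser type have small centralisers. -/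
theorem sz_centralizer_card {g : ↥(Cfsg.Sz F m)} {p : ℕ} (hp : p.Prime) (hg : orderOf g = p)
    (hd : ¬ p ∣ Fintype.card F ^ 2 + 1) :
    Nat.card (Subgroup.centralizer ({g} : Set ↥(Cfsg.Sz F m))) ∣ Fintype.card F ^ 2 ∨
      Nat.card (Subgroup.centralizer ({g} : Set ↥(Cfsg.Sz F m))) ∣ Fintype.card F - 1 := by
  obtain ⟨x, hx⟩ := Suzuki.exists_fix_of_dvd_stab hp hg hd
  have hne : g ≠ 1 := fun e => by rw [e, orderOf_one] at hg; exact hp.ne_one hg.symm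
  obtain ⟨k, hk | hk⟩ := Suzuki.centralizer_of_fix hH hne hx
  · refine Or.inl ((Subgroup.card_dvd_of_le hk).trans ?_)
    rw [Subgroup.card_map_of_injective (MulEquiv.injective _), Suzuki.card_transl hH]
  · refine Or.inr ((Subgroup.card_dvd_of_le hk).trans ?_)
    rw [Subgroup.card_map_of_injective (MulEquiv.injective _)]
    exact (Subgroup.card_range_dvd _).trans (by
      rw [LinGroup.card_units_eq_sub_one])

theorem sz_orderOf_ne {r s : ℕ} (hr : r.Prime) (hs : s.Prime) (_hrs : r ≠ s)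
    (hrd : ¬ r ∣ Fintype.card F ^ 2 + 1)
    (hno : ¬ (r ∣ Fintype.card F ^ 2 ∧ s ∣ Fintype.card F ^ 2) ∧
      ¬ (r ∣ Fintype.card F - 1 ∧ s ∣ Fintype.card F - 1))
    (x : ↥(Cfsg.Lie.Sz F (2 ^ (m + 1)))) : orderOf x ≠ r * s := by
  intro hx
  set g := (SuzukiSp4.szEquiv hH).symm x with hg'
  have hg : orderOf g = r * s := (MulEquiv.orderOf_eq _ _).trans hx
  have h1 : orderOf (g ^ s) = r := by
    rw [orderOf_pow_of_dvd hs.ne_zero (hg ▸ dvd_mul_left s r), hg, Nat.mul_div_cancel _ hs.pos]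
  have hmem : g ∈ Subgroup.centralizer ({g ^ s} : Set ↥(Cfsg.Sz F m)) :=
    Subgroup.mem_centralizer_singleton_iff.2 (Commute.self_pow g s).eq
  have hd : r * s ∣ Nat.card (Subgroup.centralizer ({g ^ s} : Set ↥(Cfsg.Sz F m))) := by
    rw [← hg, ← Subgroup.orderOf_mk g hmem]
    exact orderOf_dvd_natCard _
  rcases sz_centralizer_card hH hr h1 hrd with h | h
  · exact hno.1 ⟨(dvd_mul_right r s).trans (hd.trans h), (dvd_mul_left s r).trans (hd.trans h)⟩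
  · exact hno.2 ⟨(dvd_mul_right r s).trans (hd.trans h), (dvd_mul_left s r).trans (hd.trans h)⟩

end Sz

/-- A group with the prime graph of a Suzuki group. -/
theorem suzuki_recog (hL : FourList.{u}) {F : Type v} [Field F] [Fintype F] {m : ℕ} (hm : 1 ≤ m)
    (hF : Fintype.card F = 2 ^ (2 * m + 1)) {G : Type u} [Group G] [Finite G]
    (h1 : ∀ r : ℕ, r.Prime → (r ∣ Nat.card ↥(Cfsg.Lie.Sz F (2 ^ (m + 1))) ↔ r ∣ Nat.card G))
    (h2 : ∀ r s : ℕ, r.Prime → s.Prime → r ≠ s → (∃ y : G, orderOf y = r * s) →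
      ∃ x : ↥(Cfsg.Lie.Sz F (2 ^ (m + 1))), orderOf x = r * s) :
    Nonempty (G ⧸ Cfsg.pCore 2 G ≃* ↥(Cfsg.Lie.Sz F (2 ^ (m + 1)))) := by
  have hH : Suzuki.Hyp F m := ⟨hm, hF⟩
  set q := 2 ^ (2 * m + 1) with hq
  have hq8 : 2 ^ 3 ≤ q := Nat.pow_le_pow_right (by norm_num) (by omega)
  have hqev : 2 ∣ q := dvd_pow_self 2 (by omega)
  have hodd1 : ¬ 2 ∣ q - 1 := by omega
  have hodd2 : ¬ 2 ∣ q ^ 2 + 1 := by
    have : 2 ∣ q ^ 2 := hqev.trans (dvd_pow_self q two_ne_zero)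
    omega
  have hno2 : ∀ r : ℕ, r.Prime → r ≠ 2 → ∀ y : G, orderOf y ≠ 2 * r := by
    intro r hr hr2 y hy
    obtain ⟨x, hx⟩ := h2 2 r Nat.prime_two hr (Ne.symm hr2) ⟨y, hy⟩
    refine sz_orderOf_ne hH Nat.prime_two hr (Ne.symm hr2) (hF ▸ hodd2) ⟨fun h => hr2 ?_,
      fun h => hodd1 (hF ▸ h.1)⟩ x hx
    rw [hF] at h
    exact (Nat.prime_dvd_prime_iff_eq hr Nat.prime_two).1
      (hr.dvd_of_dvd_pow (hr.dvd_of_dvd_pow h.2))
  have hCIT : IsCIT G := isCIT_of_no_two hno2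
  have hdvd : ∀ r : ℕ, r.Prime → r ≠ 2 → (r ∣ Nat.card G ↔ r ∣ (q ^ 2 + 1) * (q - 1)) :=
    fun r hr hr2 => (h1 r hr).symm.trans (dvd_card_sz hH hr hr2)
  have hns : ¬ Group.IsSolvable G := by
    obtain ⟨r, hr, hrd⟩ := Nat.exists_prime_and_dvd (show q - 1 ≠ 1 by omega)
    obtain ⟨s, hs, hsd⟩ := Nat.exists_prime_and_dvd (show q ^ 2 + 1 ≠ 1 by
      have : 0 < q ^ 2 := by positivity
      omega)
    have hr2 : r ≠ 2 := fun e => hodd1 (e ▸ hrd)
    have hs2 : s ≠ 2 := fun e => hodd2 (e ▸ hsd)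
    have hex : ¬ r ∣ q ^ 2 + 1 := fun h => hr2 ((Nat.prime_dvd_prime_iff_eq hr Nat.prime_two).1 (by
      have e : q ^ 2 + 1 = (q - 1) * (q + 1) + 2 := by
        obtain ⟨j, hj⟩ : ∃ j, q = j + 1 := ⟨q - 1, by omega⟩
        rw [hj, Nat.add_sub_cancel]; ring
      rw [e] at h
      exact (Nat.dvd_add_right (hrd.mul_right _)).1 h))
    have hrs : r ≠ s := fun e => hex (e ▸ hsd)
    refine not_solvable_of_triple Nat.prime_two hr hs (Ne.symm hr2) (Ne.symm hs2) hrs ?_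
      ((hdvd r hr hr2).2 (hrd.mul_left _)) ((hdvd s hs hs2).2 (hsd.mul_right _))
      (hno2 r hr hr2) (hno2 s hs hs2) ?_
    · refine (h1 2 Nat.prime_two).1 ?_
      rw [← Nat.card_congr (SuzukiSp4.szEquiv hH).toEquiv, Suzuki.card_Sz hH, hF, mul_assoc]
      exact (hqev.trans (dvd_pow_self _ two_ne_zero)).mul_right _
    · intro g hg
      obtain ⟨x, hx⟩ := h2 r s hr hs hrs ⟨g, hg⟩
      refine sz_orderOf_ne hH hr hs hrs (hF ▸ hex) ⟨fun h => ?_, fun h => ?_⟩ x hx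
      · rw [hF] at h
        exact hr2 ((Nat.prime_dvd_prime_iff_eq hr Nat.prime_two).1
          (hr.dvd_of_dvd_pow (hr.dvd_of_dvd_pow h.1)))
      · rw [hF] at h
        have hsq : s ∣ (q - 1) * (q + 1) + 2 := by
          obtain ⟨j, hj⟩ : ∃ j, q = j + 1 := ⟨q - 1, by omega⟩
          convert hsd using 1
          rw [hj, Nat.add_sub_cancel]; ring
        exact hs2 ((Nat.prime_dvd_prime_iff_eq hs Nat.prime_two).1
          ((Nat.dvd_add_right (h.2.mul_right _)).1 hsq))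
  obtain ⟨hXc, hXns, hXcore, hXd⟩ := core_data hCIT hns
  have h3X : ¬ 3 ∣ Nat.card (G ⧸ Cfsg.pCore 2 G) := fun h => by
    have h' := (h1 3 Nat.prime_three).2 ((hXd 3 Nat.prime_three (by norm_num)).1 h)
    rw [← Nat.card_congr (SuzukiSp4.szEquiv hH).toEquiv] at h'
    exact Suzuki.three_not_dvd_card hH h'
  rcases coreless_cases hL hXc hXns hXcore with
    (⟨F', iF, iFF, ⟨e⟩⟩ | ⟨F', iF, iFF, n, hn, hF', ⟨e⟩⟩) |
    ⟨N, hN, hNs, hNC, hNd, hN3, hNl⟩
  · exact absurd (Nat.card_congr e.toEquiv ▸ three_dvd_card_psl) h3X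
  · have hnm : 2 * n + 1 = 2 * m + 1 := suzuki_param_eq (by omega) (by omega) fun r hr hr2 => by
      rw [← dvd_card_sz (⟨hn, hF'⟩ : Suzuki.Hyp F' n) hr hr2, ← Nat.card_congr e.toEquiv,
        hXd r hr hr2, hdvd r hr hr2]
    obtain rfl : n = m := by omega
    obtain ⟨i⟩ := SuzukiUniq.nonempty_sz_equiv hn hF' hF
    exact ⟨e.trans i⟩
  · exact absurd (hN3.trans (Subgroup.card_subgroup_dvd_card N)) h3X

end Cfsg.Agent.Lib.CITGroups
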