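import Mathlib
import Cfsg.Agent.Lib.CITGroups.GraphRecog
import Cfsg.Agent.Lib.CIT.SimpleEPPO
import Cfsg.Agent.Lib.LThreeFour.Basic
import Cfsg.Agent.Lib.Coprime.Generation
import Cfsg.Agent.S1475

/-!
Groups in which every element has prime power order: at most four primes, and the groups with four.
-/

set_option autoImplicit false

namespace Cfsg.Agent.Lib.CITGroups

open Cfsg.Agent.Lib.CIT Cfsg.Agent.Lib.SL2

universe u

/-- Every non-identity element has prime power order. -/
def EPPO (G : Type*) [Group G] : Prop := ∀ g : G, g ≠ 1 → IsPrimePow (orderOf g)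

section

variable {G : Type*} [Group G]

theorem EPPO.subgroup (h : EPPO G) (H : Subgroup G) : EPPO H := fun g hg =>
  Subgroup.orderOf_coe g ▸ h g (fun e => hg (Subtype.ext e))

theorem EPPO.quotient [Finite G] (h : EPPO G) (N : Subgroup G) [N.Normal] : EPPO (G ⧸ N) := by
  intro x hx
  obtain ⟨g, rfl⟩ := QuotientGroup.mk'_surjective N x
  refine IsPrimePow.dvd (h g fun e => hx (by rw [e, map_one])) (orderOf_map_dvd _ g) fun e =>
    hx (orderOf_eq_one_iff.1 e)

/-- No element order is divisible by two primes. -/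
theorem EPPO.eq_of_dvd (h : EPPO G) {g : G} (hg : g ≠ 1) {r s : ℕ} (hr : r.Prime) (hs : s.Prime)
    (hrd : r ∣ orderOf g) (hsd : s ∣ orderOf g) : r = s := by
  obtain ⟨p, k, hp, -, hk⟩ := (isPrimePow_nat_iff _).1 (h g hg)
  rw [← hk] at hrd hsd
  rw [(Nat.prime_dvd_prime_iff_eq hr hp).1 (hr.dvd_of_dvd_pow hrd),
    (Nat.prime_dvd_prime_iff_eq hs hp).1 (hs.dvd_of_dvd_pow hsd)]

/-- Commuting elements of coprime prime orders cannot both be nontrivial. -/
theorem EPPO.no_commute (h : EPPO G) {x y : G} {r s : ℕ} (hr : r.Prime) (hs : s.Prime)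
    (hrs : r ≠ s) (hx : orderOf x = r) (hy : orderOf y = s) : x * y ≠ y * x := by
  intro hc
  have ho := Commute.orderOf_mul_eq_mul_orderOf_of_coprime (show Commute x y from hc)
    (by rw [hx, hy]; exact (Nat.coprime_primes hr hs).2 hrs)
  rw [hx, hy] at ho
  refine hrs (h.eq_of_dvd (g := x * y) (fun e => ?_) hr hs (ho ▸ dvd_mul_right r s)
    (ho ▸ dvd_mul_left s r))
  rw [e, orderOf_one] at ho
  exact hr.ne_one (Nat.eq_one_of_mul_eq_one_right ho.symm)

end

theorem primeFactors_le_three {n p q r a b c : ℕ} (hp : p.Prime) (hq : q.Prime) (hr : r.Prime)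
    (h : n ∣ p ^ a * q ^ b * r ^ c) : n.primeFactors.card ≤ 3 := by
  refine (Finset.card_le_card (t := {p, q, r}) fun x hx => ?_).trans Finset.card_le_three
  obtain ⟨hx, hd, -⟩ := Nat.mem_primeFactors.1 hx
  simp only [Finset.mem_insert, Finset.mem_singleton]
  rcases hx.dvd_mul.1 (hd.trans h) with h' | h'
  · rcases hx.dvd_mul.1 h' with h'' | h''
    · exact Or.inl ((Nat.prime_dvd_prime_iff_eq hx hp).1 (hx.dvd_of_dvd_pow h''))
    · exact Or.inr (Or.inl ((Nat.prime_dvd_prime_iff_eq hx hq).1 (hx.dvd_of_dvd_pow h'')))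
  · exact Or.inr (Or.inr ((Nat.prime_dvd_prime_iff_eq hx hr).1 (hx.dvd_of_dvd_pow h')))

theorem primeFactors_le_four {n p q r s a b c d : ℕ} (hp : p.Prime) (hq : q.Prime) (hr : r.Prime)
    (hs : s.Prime) (h : n ∣ p ^ a * q ^ b * r ^ c * s ^ d) : n.primeFactors.card ≤ 4 := by
  refine (Finset.card_le_card (t := {p, q, r, s}) fun x hx => ?_).trans Finset.card_le_four
  obtain ⟨hx, hd, -⟩ := Nat.mem_primeFactors.1 hx
  simp only [Finset.mem_insert, Finset.mem_singleton]
  have he : ∀ {t e : ℕ}, t.Prime → x ∣ t ^ e → x = t := fun ht h' =>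
    (Nat.prime_dvd_prime_iff_eq hx ht).1 (hx.dvd_of_dvd_pow h')
  rcases hx.dvd_mul.1 (hd.trans h) with h' | h'
  · rcases hx.dvd_mul.1 h' with h'' | h''
    · rcases hx.dvd_mul.1 h'' with h3 | h3
      · exact Or.inl (he hp h3)
      · exact Or.inr (Or.inl (he hq h3))
    · exact Or.inr (Or.inr (Or.inl (he hr h'')))
  · exact Or.inr (Or.inr (Or.inr (he hs h')))

/-- The groups `PSL₂(q)` on the list have at most three prime divisors. -/
theorem psl_primes_le {G : Type*} [Group G] [Finite G] (h : EPPO G) {F : Type} [Field F]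
    [Fintype F] (e : G ≃* Matrix.ProjectiveSpecialLinearGroup (Fin 2) F)
    (hF : Fintype.card F = 9 ∨ (∃ n : ℕ, Fintype.card F = 2 ^ n) ∨
      ((Fintype.card F).Prime ∧ ∃ k : ℕ, Fintype.card F = 2 ^ k + 1 ∨ Fintype.card F + 1 = 2 ^ k)) :
    (Nat.card G).primeFactors.card ≤ 3 := by
  have hd : Nat.card G ∣ Fintype.card F * ((Fintype.card F + 1) * (Fintype.card F - 1)) := by
    rw [Nat.card_congr e.toEquiv]
    show Nat.card (PSLtwo F) ∣ _
    rcases Nat.even_or_odd (Fintype.card F) with he | ho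
    · rw [PSLSpectrum.card_psl_even he]
    · exact ⟨2, by rw [mul_comm (Nat.card _) 2, PSLSpectrum.card_psl_odd ho]⟩
  have h1 : 1 < Fintype.card F := Fintype.one_lt_card
  have hc : Fintype.card F = 2 ∨ Fintype.card F = 3 ∨
      Fintype.card F ∈ ({4, 5, 7, 8, 9, 17} : Finset ℕ) := by
    rcases Nat.lt_or_ge (Fintype.card F) 4 with hlt | h4
    · omega
    · exact Or.inr (Or.inr (SimpleEPPO.psl_card h e h4 hF))
  simp only [Finset.mem_insert, Finset.mem_singleton] at hc
  rcases hc with hc | hc | hc | hc | hc | hc | hc | hc <;> rw [hc] at hd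
  all_goals first
    | (refine primeFactors_le_three (a := 4) (b := 2) (c := 1) Nat.prime_two Nat.prime_three
        Nat.prime_five (hd.trans ?_)
       norm_num; done)
    | (refine primeFactors_le_three (a := 4) (b := 2) (c := 1) Nat.prime_two Nat.prime_three
        (show Nat.Prime 7 by norm_num) (hd.trans ?_)
       norm_num; done)
    | (refine primeFactors_le_three (a := 5) (b := 2) (c := 1) Nat.prime_two Nat.prime_three
        (show Nat.Prime 17 by norm_num) (hd.trans ?_)
       norm_num; done)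

/-! ### The group `PSL₃(4)` -/

section L34

variable {F : Type} [Field F] [Fintype F]

theorem card_psl34 (hF : Fintype.card F = 4) :
    Nat.card (Matrix.ProjectiveSpecialLinearGroup (Fin 3) F) = 20160 := by
  have hc := LinGroup.card_PSL_mul (F := F) 3 (by norm_num)
  rw [hF] at hc
  simp [Fin.prod_univ_three] at hc
  omega

theorem primeFactors_psl34 : (20160 : ℕ).primeFactors = {2, 3, 5, 7} := by
  ext r
  simp only [Nat.mem_primeFactors, Finset.mem_insert, Finset.mem_singleton]
  constructor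
  · rintro ⟨hr, hd, -⟩
    have hd' : r ∣ 2 ^ 6 * 3 ^ 2 * 5 ^ 1 * 7 ^ 1 := by norm_num; exact hd
    have he : ∀ {t e : ℕ}, t.Prime → r ∣ t ^ e → r = t := fun ht h' =>
      (Nat.prime_dvd_prime_iff_eq hr ht).1 (hr.dvd_of_dvd_pow h')
    rcases hr.dvd_mul.1 hd' with h' | h'
    · rcases hr.dvd_mul.1 h' with h'' | h''
      · rcases hr.dvd_mul.1 h'' with h3 | h3
        · exact Or.inl (he Nat.prime_two h3)
        · exact Or.inr (Or.inl (he Nat.prime_three h3))
      · exact Or.inr (Or.inr (Or.inl (he Nat.prime_five h'')))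
    · exact Or.inr (Or.inr (Or.inr (he (by norm_num) h')))
  · rintro (rfl | rfl | rfl | rfl) <;> norm_num

/-- Two commuting elements of order three generating different subgroups. -/
theorem exists_three_pair (hF : Fintype.card F = 4) :
    ∃ a b : Matrix.ProjectiveSpecialLinearGroup (Fin 3) F, orderOf a = 3 ∧ orderOf b = 3 ∧
      a * b = b * a ∧ b ∉ Subgroup.zpowers a := by
  classical
  haveI : Fact (Nat.Prime 3) := ⟨Nat.prime_three⟩
  obtain ⟨u, hu⟩ : ∃ u : Fˣ, u ≠ 1 := Fintype.exists_ne_of_one_lt_card (by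
    rw [Fintype.card_units, hF]; norm_num) 1
  set w : F := (u : F) with hw
  have hw0 : w ≠ 0 := u.ne_zero
  have hw1 : w ≠ 1 := fun e => hu (Units.ext e)
  have hw3 : w ^ 3 = 1 := LThreeFour.cube hF hw0
  let D : Matrix.SpecialLinearGroup (Fin 3) F := ⟨!![1, 0, 0; 0, w, 0; 0, 0, w ^ 2], by
    rw [Matrix.det_fin_three]
    simp
    linear_combination hw3⟩
  let P : Matrix.SpecialLinearGroup (Fin 3) F := ⟨!![0, 1, 0; 0, 0, 1; 1, 0, 0], by
    rw [Matrix.det_fin_three]
    simp⟩
  let π := QuotientGroup.mk' (Subgroup.center (Matrix.SpecialLinearGroup (Fin 3) F))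
  have hDne : π D ≠ 1 := fun e => by
    obtain ⟨t, ht⟩ := LThreeFour.mk_eq_iff.1 ((map_one π).trans e.symm)
    have h0 := congrFun (congrFun ht 0) 0
    have h1 := congrFun (congrFun ht 1) 1
    simp [D] at h0 h1
    exact hw1 (h1.trans h0.symm)
  have hPne : π P ≠ 1 := fun e => by
    obtain ⟨t, ht⟩ := LThreeFour.mk_eq_iff.1 ((map_one π).trans e.symm)
    have h0 := congrFun (congrFun ht 0) 1
    simp [P] at h0
  have hD3 : D ^ 3 = 1 := by
    refine Subtype.ext ?_
    rw [Matrix.SpecialLinearGroup.coe_pow, Matrix.SpecialLinearGroup.coe_one]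
    show (!![1, 0, 0; 0, w, 0; 0, 0, w ^ 2] : Matrix (Fin 3) (Fin 3) F) ^ 3 = 1
    ext i j
    fin_cases i <;> fin_cases j <;>
      simp [pow_succ, Matrix.mul_apply, Fin.sum_univ_three] <;>
      first
        | linear_combination hw3
        | linear_combination (w ^ 3 + 1) * hw3
  have hP3 : P ^ 3 = 1 := by
    refine Subtype.ext ?_
    rw [Matrix.SpecialLinearGroup.coe_pow, Matrix.SpecialLinearGroup.coe_one]
    show (!![0, 1, 0; 0, 0, 1; 1, 0, 0] : Matrix (Fin 3) (Fin 3) F) ^ 3 = 1
    ext i j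
    fin_cases i <;> fin_cases j <;>
      simp [pow_succ, Matrix.mul_apply, Fin.sum_univ_three]
  refine ⟨π D, π P, orderOf_eq_prime (by rw [← map_pow, hD3, map_one]) hDne,
    orderOf_eq_prime (by rw [← map_pow, hP3, map_one]) hPne, ?_, ?_⟩
  · rw [← map_mul, ← map_mul]
    refine LThreeFour.mk_eq_iff.2 ⟨w, ?_⟩
    rw [Matrix.SpecialLinearGroup.coe_mul, Matrix.SpecialLinearGroup.coe_mul]
    show (!![0, 1, 0; 0, 0, 1; 1, 0, 0] : Matrix (Fin 3) (Fin 3) F) *
        !![1, 0, 0; 0, w, 0; 0, 0, w ^ 2] =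
      w • (!![1, 0, 0; 0, w, 0; 0, 0, w ^ 2] * !![0, 1, 0; 0, 0, 1; 1, 0, 0])
    ext i j
    fin_cases i <;> fin_cases j <;>
      simp [Matrix.mul_apply, Fin.sum_univ_three] <;>
      first
        | linear_combination hw3
        | linear_combination -hw3
        | ring
  · intro hmem
    obtain ⟨n, hn⟩ := (Submonoid.mem_powers_iff _ _).1
      ((isOfFinOrder_of_finite (π D)).mem_powers_iff_mem_zpowers.2 hmem)
    rw [← map_pow] at hn
    obtain ⟨t, ht⟩ := LThreeFour.mk_eq_iff.1 hn
    have hdiag : ∀ k : ℕ,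
        ((D ^ k : Matrix.SpecialLinearGroup (Fin 3) F) : Matrix (Fin 3) (Fin 3) F) 0 1 = 0 := by
      intro k
      induction k with
      | zero => simp
      | succ k ih =>
        rw [pow_succ, Matrix.SpecialLinearGroup.coe_mul, Matrix.mul_apply, Fin.sum_univ_three, ih]
        simp [D]
    have h01 := congrFun (congrFun ht 0) 1
    simp only [Matrix.smul_apply, smul_eq_mul] at h01
    rw [hdiag] at h01
    simp [P] at h01

end L34

/-! ### Normalisers of subgroups of prime order -/

/-- The normaliser of a subgroup of prime order `p`: a cyclic `p'`-part dividing `p - 1`. -/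
theorem EPPO.normalizer_data {X : Type*} [Group X] [Finite X] (h : EPPO X) {p : ℕ} [hp : Fact p.Prime]
    {P : Subgroup X} (hP : Nat.card P = p) :
    IsPGroup p ↥(Subgroup.normalizerMonoidHom P).ker ∧
      IsCyclic (Subgroup.normalizerMonoidHom P).range ∧
      Nat.card (Subgroup.normalizerMonoidHom P).range ∣ p - 1 ∧
      ∃ j : ℕ, Nat.card (Subgroup.normalizer (P : Set X)) =
        Nat.card (Subgroup.normalizerMonoidHom P).range * p ^ j := by
  obtain ⟨y, hy⟩ : ∃ y : P, orderOf (y : X) = p := by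
    obtain ⟨y, hy⟩ := exists_prime_orderOf_dvd_card' (G := P) p (by rw [hP])
    exact ⟨y, (Subgroup.orderOf_coe y).trans hy⟩
  have hker : IsPGroup p ↥(Subgroup.normalizerMonoidHom P).ker := by
    rw [IsPGroup.iff_card]
    refine ⟨_, Nat.eq_prime_pow_of_unique_prime_dvd Nat.card_pos.ne' fun {r} hr hrd => ?_⟩
    by_contra hrp
    haveI := Fact.mk hr
    obtain ⟨c, hc⟩ := exists_prime_orderOf_dvd_card' r hrd
    have hmem : ((c : Subgroup.normalizer (P : Set X)) : X) ∈ Subgroup.centralizer (P : Set X) :=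
      Subgroup.mem_subgroupOf.1 (by rw [← Subgroup.normalizerMonoidHom_ker P]; exact c.2)
    exact h.no_commute hp.out hr (Ne.symm hrp) hy
      (by rw [Subgroup.orderOf_coe, Subgroup.orderOf_coe, hc])
      (Subgroup.mem_centralizer_iff.1 hmem _ y.2)
  haveI hcyc : IsCyclic P := isCyclic_of_prime_card hP
  have hA : Nat.card (MulAut P) = p - 1 := by
    rw [Nat.card_congr (IsCyclic.mulAutMulEquiv P).toEquiv, hP, Nat.card_eq_fintype_card,
      ZMod.card_units_eq_totient, Nat.totient_prime hp.out]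
  haveI : IsCyclic (MulAut P) := by
    haveI : IsCyclic (ZMod (Nat.card P))ˣ := by rw [hP]; infer_instance
    exact (IsCyclic.mulAutMulEquiv P).isCyclic.2 inferInstance
  obtain ⟨j, hj⟩ := IsPGroup.iff_card.1 hker
  refine ⟨hker, inferInstance, hA ▸ Subgroup.card_subgroup_dvd_card _, j, ?_⟩
  rw [← Subgroup.index_mul_card (Subgroup.normalizerMonoidHom P).ker, Subgroup.index_ker, hj]

theorem relIndex_dvd_of_frattini {X : Type*} [Group X] [Finite X] {N : Subgroup X} [N.Normal]
    {p : ℕ} [Fact p.Prime] (P : Sylow p N) :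
    N.index ∣ Nat.card (Subgroup.normalizer (((P : Subgroup N).map N.subtype : Subgroup X) : Set X)) := by
  have hfr := Sylow.normalizer_sup_eq_top P
  have : N.index = N.relIndex (Subgroup.normalizer
      (((P : Subgroup N).map N.subtype : Subgroup X) : Set X)) := by
    rw [← Subgroup.relIndex_sup_right, hfr, Subgroup.relIndex_top_right]
  rw [this]
  exact Subgroup.relIndex_dvd_card _ _

theorem card_sylow_of_dvd_once {N : Type*} [Group N] [Finite N] {p : ℕ} [hp : Fact p.Prime]
    (P : Sylow p N) {c : ℕ} (h : Nat.card N = p * c) (hc : ¬ p ∣ c) : Nat.card P = p := by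
  rw [P.card_eq_multiplicity, h, Nat.factorization_mul hp.out.ne_zero (fun e => hc (by rw [e]; exact dvd_zero p)),
    Finsupp.add_apply, Nat.Prime.factorization_self hp.out,
    Nat.factorization_eq_zero_of_not_dvd hc, pow_one]

/-- A simple normal subgroup `PSL₃(4)` is the whole group. -/
theorem eq_top_of_psl34 {X : Type*} [Group X] [Finite X] (h : EPPO X) {N : Subgroup X} [N.Normal]
    [IsSimpleGroup N] (hN : Nat.card N = 20160) : N = ⊤ := by
  haveI : Fact (Nat.Prime 7) := ⟨by norm_num⟩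
  haveI : Fact (Nat.Prime 5) := ⟨Nat.prime_five⟩
  haveI : Fact (Nat.Prime 3) := ⟨Nat.prime_three⟩
  haveI : Fact (Nat.Prime 2) := ⟨Nat.prime_two⟩
  obtain ⟨P⟩ : Nonempty (Sylow 7 N) := inferInstance
  obtain ⟨R⟩ : Nonempty (Sylow 5 N) := inferInstance
  have hP : Nat.card P = 7 := card_sylow_of_dvd_once P (c := 2880) (by rw [hN]) (by norm_num)
  have hR : Nat.card R = 5 := card_sylow_of_dvd_once R (c := 4032) (by rw [hN]) (by norm_num)
  -- the normaliser in `N` of a Sylow 7-subgroup has order divisible by three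
  have h3 : 3 ∣ Nat.card (Subgroup.normalizer ((P : Subgroup N) : Set N)) := by
    obtain ⟨hk, -, hr, j, hj⟩ := (h.subgroup N).normalizer_data hP
    have hmul := Subgroup.card_mul_index (Subgroup.normalizer ((P : Subgroup N) : Set N))
    have hidx := P.card_eq_index_normalizer
    have hmod : Nat.card (Sylow 7 N) % 7 = 1 := card_sylow_modEq_one 7 N
    rw [show ((P : Sylow 7 N) : Set N) = ((P : Subgroup N) : Set N) from rfl] at hidx
    rw [← hidx, hN] at hmul
    have h7 : 7 ∣ Nat.card (Subgroup.normalizer ((P : Subgroup N) : Set N)) := by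
      simpa [hP] using Subgroup.card_dvd_of_le (Subgroup.le_normalizer (H := (P : Subgroup N)))
    rw [hj] at hmul h7 ⊢
    generalize Nat.card (Subgroup.normalizerMonoidHom (P : Subgroup N)).range = r at *
    obtain rfl : j = 1 := by
      rcases Nat.lt_or_ge j 2 with hj2 | hj2
      · interval_cases j
        · exfalso
          rw [pow_zero, mul_one] at h7
          have := h7.trans hr
          norm_num at this
        · rfl
      · exfalso
        have h49 : 7 ^ 2 ∣ 20160 :=
          (pow_dvd_pow 7 hj2).trans ⟨r * Nat.card (Sylow 7 N), by rw [← hmul]; ring⟩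
        norm_num at h49
    have hr6 : r ≤ 6 := Nat.le_of_dvd (by norm_num) hr
    refine Dvd.dvd.mul_right ?_ _
    interval_cases r
    all_goals first
      | omega
      | (norm_num at hr; done)
      | (norm_num; done)
  obtain ⟨z, hz⟩ := exists_prime_orderOf_dvd_card' 3 h3
  -- normalisers in the whole group
  have hP' : Nat.card ((P : Subgroup N).map N.subtype) = 7 := by
    rw [Subgroup.card_map_of_injective N.subtype_injective, hP]
  have hR' : Nat.card ((R : Subgroup N).map N.subtype) = 5 := by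
    rw [Subgroup.card_map_of_injective N.subtype_injective, hR]
  obtain ⟨hk7, hc7, hd7, j, hj⟩ := h.normalizer_data hP'
  obtain ⟨-, -, hd5, i, hi⟩ := h.normalizer_data hR'
  have hi7 := relIndex_dvd_of_frattini P
  have hi5 := relIndex_dvd_of_frattini R
  set ψ := Subgroup.normalizerMonoidHom ((P : Subgroup N).map N.subtype) with hψ
  have hzmem : ((z : N) : X) ∈
      Subgroup.normalizer (((P : Subgroup N).map N.subtype : Subgroup X) : Set X) :=
    Subgroup.le_normalizer_map N.subtype ⟨z, z.2, rfl⟩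
  have hzo : orderOf (⟨((z : N) : X), hzmem⟩ : Subgroup.normalizer
      (((P : Subgroup N).map N.subtype : Subgroup X) : Set X)) = 3 := by
    rw [Subgroup.orderOf_mk, Subgroup.orderOf_coe, Subgroup.orderOf_coe, hz]
  have h3r : 3 ∣ Nat.card ψ.range := by
    rcases (Nat.dvd_prime Nat.prime_three).1 (hzo ▸ orderOf_map_dvd ψ _) with e | e
    · exfalso
      have hmem : (⟨((z : N) : X), hzmem⟩ : Subgroup.normalizer
          (((P : Subgroup N).map N.subtype : Subgroup X) : Set X)) ∈ ψ.ker :=
        MonoidHom.mem_ker.2 (orderOf_eq_one_iff.1 e)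
      obtain ⟨k, hk⟩ := (IsPGroup.iff_orderOf.1 hk7) ⟨_, hmem⟩
      rw [Subgroup.orderOf_mk, hzo] at hk
      rcases k with _ | k
      · norm_num at hk
      · have : 7 ∣ 3 := hk ▸ dvd_pow_self 7 (Nat.succ_ne_zero k)
        norm_num at this
    · rw [← e, ← Subgroup.orderOf_mk (H := ψ.range) (ψ _) ⟨_, rfl⟩]
      exact orderOf_dvd_natCard _
  have hr3 : Nat.card ψ.range = 3 := by
    have hle : Nat.card ψ.range ≤ 6 := Nat.le_of_dvd (by norm_num) hd7
    have hpos : 0 < Nat.card ψ.range := Nat.card_pos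
    by_contra hne
    have h6 : Nat.card ψ.range = 6 := by omega
    obtain ⟨g, hg⟩ := IsCyclic.exists_ofOrder_eq_natCard (α := ψ.range)
    obtain ⟨w, hw⟩ := g.2
    have hdv : 6 ∣ orderOf (w : X) := by
      rw [Subgroup.orderOf_coe, ← h6, ← hg, ← Subgroup.orderOf_coe, ← hw]
      exact orderOf_map_dvd ψ w
    refine absurd (h.eq_of_dvd (g := (w : X)) (fun e => ?_) Nat.prime_two Nat.prime_three
      (dvd_trans (by norm_num) hdv) (dvd_trans (by norm_num) hdv)) (by norm_num)
    rw [e, orderOf_one] at hdv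
    norm_num at hdv
  rw [hj, hr3] at hi7
  rw [hi] at hi5
  rw [← Subgroup.index_eq_one]
  refine Nat.eq_one_of_dvd_coprimes ?_ hi7 (hi5.trans (mul_dvd_mul_right hd5 _))
  exact Nat.Coprime.mul_left
    (Nat.Coprime.mul_right (by norm_num) (Nat.Coprime.pow_right _ (by norm_num)))
    (Nat.Coprime.mul_right (Nat.Coprime.pow_left _ (by norm_num))
      (Nat.Coprime.pow _ _ (by norm_num)))

/-- An extension of a 2-group by `PSL₃(4)` with all element orders prime powers is `PSL₃(4)`. -/
theorem eq_bot_of_psl34 {G : Type*} [Group G] [Finite G] (h : EPPO G) {K : Subgroup G} [K.Normal]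
    (hK : IsPGroup 2 K) {F : Type} [Field F] [Fintype F] (hF : Fintype.card F = 4)
    (e : G ⧸ K ≃* Matrix.ProjectiveSpecialLinearGroup (Fin 3) F) : K = ⊥ := by
  haveI : Fact (Nat.Prime 3) := ⟨Nat.prime_three⟩
  haveI : Fact (Nat.Prime 2) := ⟨Nat.prime_two⟩
  obtain ⟨kk, hkk⟩ := IsPGroup.iff_card.1 hK
  obtain ⟨T⟩ : Nonempty (Sylow 3 G) := inferInstance
  have hT : Nat.card T = 9 := by
    rw [T.card_eq_multiplicity, Subgroup.card_eq_card_quotient_mul_card_subgroup K,
      Nat.card_congr e.toEquiv, card_psl34 hF, hkk, show 20160 = 3 ^ 2 * 2240 by norm_num,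
      Nat.factorization_mul (by norm_num) (by positivity),
      Nat.factorization_mul (by norm_num) (by norm_num)]
    simp only [Finsupp.add_apply]
    rw [Nat.Prime.factorization_pow Nat.prime_three,
      Nat.factorization_eq_zero_of_not_dvd (show ¬ 3 ∣ 2240 by norm_num),
      Nat.factorization_eq_zero_of_not_dvd (show ¬ 3 ∣ 2 ^ kk from fun hd => by
        have := (Nat.prime_dvd_prime_iff_eq Nat.prime_three Nat.prime_two).1
          (Nat.prime_three.dvd_of_dvd_pow hd)
        norm_num at this)]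
    simp
  haveI : IsMulCommutative (T : Subgroup G) :=
    IsPGroup.isMulCommutative_of_card_eq_prime_sq (p := 3) (by rw [hT]; rfl)
  have hTc : ¬ IsCyclic (T : Subgroup G) := by
    intro hcyc
    obtain ⟨a, b, ha, hb, hab, hba⟩ := exists_three_pair hF
    let f : G →* Matrix.ProjectiveSpecialLinearGroup (Fin 3) F :=
      e.toMonoidHom.comp (QuotientGroup.mk' K)
    have hf : Function.Surjective f := e.surjective.comp (QuotientGroup.mk'_surjective K)
    let S := T.mapSurjective hf
    haveI hScyc : IsCyclic (S : Subgroup (Matrix.ProjectiveSpecialLinearGroup (Fin 3) F)) := by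
      refine isCyclic_of_surjective (f.subgroupMap (T : Subgroup G)) ?_
      exact f.subgroupMap_surjective _
    haveI : IsMulCommutative (Subgroup.closure ({a, b} : Set _)) :=
      Subgroup.isMulCommutative_closure (by
        rintro x (rfl | rfl) y (rfl | rfl) <;> first | rfl | exact hab | exact hab.symm)
    have hA : IsPGroup 3 (Subgroup.closure ({a, b} : Set _)) := by
      intro x
      refine ⟨1, Subtype.ext ?_⟩
      rw [SubmonoidClass.coe_pow]
      show (x : Matrix.ProjectiveSpecialLinearGroup (Fin 3) F) ^ 3 ^ 1 = 1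
      refine Subgroup.closure_induction (p := fun y _ => y ^ 3 ^ 1 = 1) ?_ (one_pow _) ?_ ?_ x.2
      · rintro y (rfl | rfl)
        · show y ^ 3 ^ 1 = 1
          rw [pow_one]
          exact orderOf_dvd_iff_pow_eq_one.1 ha.dvd
        · show y ^ 3 ^ 1 = 1
          rw [pow_one]
          exact orderOf_dvd_iff_pow_eq_one.1 hb.dvd
      · intro y z hy hz ey ez
        have hc : Commute y z := congrArg Subtype.val
          (IsMulCommutative.is_comm.comm (⟨y, hy⟩ : Subgroup.closure ({a, b} : Set _)) ⟨z, hz⟩)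
        rw [hc.mul_pow, ey, ez, one_mul]
      · intro y _ ey
        rw [inv_pow, ey, inv_one]
    obtain ⟨S', hS'⟩ := hA.exists_le_sylow
    haveI : IsCyclic (S' : Subgroup (Matrix.ProjectiveSpecialLinearGroup (Fin 3) F)) := by
      obtain ⟨g, hg⟩ := MulAction.exists_smul_eq (Matrix.ProjectiveSpecialLinearGroup (Fin 3) F) S S'
      rw [← hg, Sylow.coe_subgroup_smul]
      exact (Subgroup.equivSMul (MulAut.conj g) _).isCyclic.1 hScyc
    classical
    have ha' : a ∈ (S' : Subgroup _) := hS' (Subgroup.subset_closure (Set.mem_insert a _))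
    have hb' : b ∈ (S' : Subgroup _) :=
      hS' (Subgroup.subset_closure (Set.mem_insert_of_mem a rfl))
    refine hba ?_
    haveI : Fintype (S' : Subgroup (Matrix.ProjectiveSpecialLinearGroup (Fin 3) F)) :=
      Fintype.ofFinite _
    have h3z : Nat.card (Subgroup.zpowers a) = 3 := by rw [Nat.card_zpowers, ha]
    -- the elements of order dividing three of the cyclic group lie in one subgroup
    have hle := IsCyclic.card_pow_eq_one_le
      (α := (S' : Subgroup (Matrix.ProjectiveSpecialLinearGroup (Fin 3) F))) (n := 3) (by norm_num)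
    by_contra hb''
    set a' : (S' : Subgroup (Matrix.ProjectiveSpecialLinearGroup (Fin 3) F)) := ⟨a, ha'⟩ with hadef
    set b' : (S' : Subgroup (Matrix.ProjectiveSpecialLinearGroup (Fin 3) F)) := ⟨b, hb'⟩ with hbdef
    have ha3 : a' ^ 3 = 1 := orderOf_dvd_iff_pow_eq_one.1 (by rw [Subgroup.orderOf_mk, ha])
    have hb3 : b' ^ 3 = 1 := orderOf_dvd_iff_pow_eq_one.1 (by rw [Subgroup.orderOf_mk, hb])
    have hne : ∀ k : ℕ, a ^ k ≠ b := fun k hk => hb'' (hk ▸ Subgroup.npow_mem_zpowers a k)
    have hsub : ({1, a', a' ^ 2, b'} : Finset _) ⊆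
        Finset.univ.filter (fun x => x ^ 3 = 1) := by
      intro x hx
      simp only [Finset.mem_insert, Finset.mem_singleton] at hx
      refine Finset.mem_filter.2 ⟨Finset.mem_univ _, ?_⟩
      rcases hx with rfl | rfl | rfl | rfl
      · exact one_pow _
      · exact ha3
      · rw [← pow_mul, mul_comm, pow_mul, ha3, one_pow]
      · exact hb3
    have hoa : orderOf a' = 3 := by rw [Subgroup.orderOf_mk, ha]
    have h1a : (1 : (S' : Subgroup (Matrix.ProjectiveSpecialLinearGroup (Fin 3) F))) ≠ a' :=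
      fun e => by rw [← e, orderOf_one] at hoa; omega
    have h1a2 : (1 : (S' : Subgroup (Matrix.ProjectiveSpecialLinearGroup (Fin 3) F))) ≠ a' ^ 2 :=
      fun e => by
        have := orderOf_dvd_of_pow_eq_one e.symm
        rw [hoa] at this
        norm_num at this
    have haa2 : a' ≠ a' ^ 2 := fun e => by
      have : a' ^ 1 = a' ^ 2 := by rw [pow_one]; exact e
      have := pow_injOn_Iio_orderOf (show 1 ∈ Set.Iio (orderOf a') by simp [hoa])
        (show 2 ∈ Set.Iio (orderOf a') by simp [hoa]) this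
      omega
    have hb1 : ∀ k : ℕ, a' ^ k ≠ b' := fun k hk => hne k (congrArg Subtype.val hk)
    have hcard := (Finset.card_le_card hsub).trans hle
    rw [Finset.card_insert_of_notMem (by
        simp only [Finset.mem_insert, Finset.mem_singleton, not_or]
        exact ⟨h1a, h1a2, by simpa using hb1 0⟩),
      Finset.card_insert_of_notMem (by
        simp only [Finset.mem_insert, Finset.mem_singleton, not_or]
        exact ⟨haa2, by simpa using hb1 1⟩),
      Finset.card_pair (hb1 2)] at hcard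
    omega
  refine le_bot_iff.1 (Coprime.le_of_noncyclic hTc ?_ ?_ fun x hx hx1 => ?_)
  · rw [Subgroup.normalizer_eq_top]
    exact le_top
  · rw [hT, hkk]
    exact (Nat.Coprime.pow_right _ (by norm_num))
  · rintro c ⟨hcK, hcx⟩
    rw [Subgroup.mem_bot]
    by_contra hc1
    obtain ⟨l, hl⟩ := (IsPGroup.iff_orderOf.1 hK) ⟨c, hcK⟩
    obtain ⟨k, hk⟩ := (IsPGroup.iff_orderOf.1 T.isPGroup') ⟨x, hx⟩
    rw [Subgroup.orderOf_mk] at hl hk
    refine hx1 (IsCIT.eq_one_of_commute (SimpleEPPO.isCIT_of_eppo h) (x := c) (y := x) (k := l)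
      (by rw [← hl]; exact pow_orderOf_eq_one c) hc1 (hk ▸ (by decide : Odd 3).pow)
      (Subgroup.mem_centralizer_singleton_iff.1 hcx))

/-! ### The theorem -/

theorem primeFactors_eq_of_odd {a b : ℕ} (ha : a ≠ 0) (hb : b ≠ 0) (ha2 : 2 ∣ a) (hb2 : 2 ∣ b)
    (h : ∀ r : ℕ, r.Prime → r ≠ 2 → (r ∣ a ↔ r ∣ b)) : a.primeFactors = b.primeFactors := by
  ext r
  simp only [Nat.mem_primeFactors]
  constructor
  · rintro ⟨hr, hd, -⟩
    rcases eq_or_ne r 2 with rfl | hr2
    · exact ⟨hr, hb2, hb⟩
    · exact ⟨hr, (h r hr hr2).1 hd, hb⟩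
  · rintro ⟨hr, hd, -⟩
    rcases eq_or_ne r 2 with rfl | hr2
    · exact ⟨hr, ha2, ha⟩
    · exact ⟨hr, (h r hr hr2).2 hd, ha⟩

/-- At most four primes divide the order of a group with all element orders prime powers; the
groups with four. -/
theorem eppo_four (hL : FourList.{u}) {G : Type u} [Group G] [Finite G] (h : EPPO G) :
    (Nat.card G).primeFactors.card ≤ 4 ∧
    ((Nat.card G).primeFactors.card = 4 →
      (∃ (F : Type) (_ : Field F) (_ : Fintype F), Fintype.card F = 4 ∧
        Nonempty (G ≃* Matrix.ProjectiveSpecialLinearGroup (Fin 3) F)) ∨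
      (∃ (N : Subgroup G) (_ : N.Normal), IsPGroup 2 ↥N ∧
        ∃ (F : Type) (_ : Field F) (_ : Fintype F),
          (Fintype.card F = 8 ∧ Nonempty (G ⧸ N ≃* ↥(Cfsg.Lie.Sz F 4))) ∨
          (Fintype.card F = 32 ∧ Nonempty (G ⧸ N ≃* ↥(Cfsg.Lie.Sz F 8))))) := by
  by_cases hs : Group.IsSolvable G
  · have := @Cfsg.Agent.S1475.result G _ _ hs fun g => (eq_or_ne g 1).symm.imp (h g) id
    exact ⟨by omega, fun e => by omega⟩
  haveI : Fact (Nat.Prime 2) := ⟨Nat.prime_two⟩
  have hCIT : IsCIT G := SimpleEPPO.isCIT_of_eppo h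
  obtain ⟨hXc, hXns, hXcore, hXd⟩ := core_data hCIT hs
  have hXe : EPPO (G ⧸ Cfsg.pCore 2 G) := h.quotient _
  have hpf : (Nat.card G).primeFactors = (Nat.card (G ⧸ Cfsg.pCore 2 G)).primeFactors :=
    (primeFactors_eq_of_odd Nat.card_pos.ne' Nat.card_pos.ne' (even_card hXns) (even_card hs)
      hXd).symm
  rw [hpf]
  rcases coreless_cases hL hXc hXns hXcore with
    (⟨F', iF, iFF, ⟨e⟩⟩ | ⟨F', iF, iFF, n, hn, hF', ⟨e⟩⟩) |
    ⟨N, hN, hNs, hNC, hNd, hN3, hNl⟩
  · have h3 : (Nat.card (G ⧸ Cfsg.pCore 2 G)).primeFactors.card ≤ 3 := by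
      refine psl_primes_le hXe e ?_
      rcases Nat.even_or_odd (Fintype.card F') with hev | hodd
      · obtain ⟨p, hp⟩ := CharP.exists F'
        obtain ⟨⟨k, hk⟩, hpp, hpe⟩ := FiniteField.card F' p
        simp only [PNat.mk_coe] at hpe
        obtain rfl : p = 2 := ((Nat.prime_dvd_prime_iff_eq Nat.prime_two hpp).1
          (Nat.prime_two.dvd_of_dvd_pow (n := k) (hpe ▸ even_iff_two_dvd.1 hev))).symm
        exact Or.inr (Or.inl ⟨k, hpe⟩)
      · rcases odd_field_of_cit (isCIT_of_no_two fun r hr hr2 y hy =>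
          no_two_of_isCIT hXc hr hr2 (e.symm y) ((MulEquiv.orderOf_eq _ _).trans hy)) hodd with h9 | hp
        · exact Or.inl h9
        · exact Or.inr (Or.inr hp)
    exact ⟨by omega, fun e => by omega⟩
  · have hn2 : n ≤ 2 := SimpleEPPO.suzuki_param hXe hn hF' e
    have hle : (Nat.card (G ⧸ Cfsg.pCore 2 G)).primeFactors.card ≤ 4 := by
      rw [Nat.card_congr e.toEquiv,
        ← Nat.card_congr (SuzukiSp4.szEquiv (⟨hn, hF'⟩ : Suzuki.Hyp F' n)).toEquiv,
        Suzuki.card_Sz (⟨hn, hF'⟩ : Suzuki.Hyp F' n), hF']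
      interval_cases n
      · exact primeFactors_le_four (p := 2) (q := 5) (r := 7) (s := 13) (a := 6) (b := 1) (c := 1)
          (d := 1) Nat.prime_two Nat.prime_five (by norm_num) (by norm_num) (by norm_num)
      · exact primeFactors_le_four (p := 2) (q := 5) (r := 31) (s := 41) (a := 10) (b := 2) (c := 1)
          (d := 1) Nat.prime_two Nat.prime_five (by norm_num) (by norm_num) (by norm_num)
    refine ⟨hle, fun _ => Or.inr ⟨Cfsg.pCore 2 G, inferInstance, PSolvable.pCore_isPGroup,
      F', iF, iFF, ?_⟩⟩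
    interval_cases n
    · exact Or.inl ⟨hF', ⟨e⟩⟩
    · exact Or.inr ⟨hF', ⟨e⟩⟩
  · haveI := hN
    haveI := hNs
    have hNpf : (Nat.card (G ⧸ Cfsg.pCore 2 G)).primeFactors = (Nat.card N).primeFactors :=
      primeFactors_eq_of_odd Nat.card_pos.ne' Nat.card_pos.ne' (even_card hXns)
        (even_card fun hNs' => by
          have := hNs'
          have hcomm := IsSimpleGroup.comm_iff_isSolvable.2 hNs'
          have hb : N = ⊥ := by
            refine le_bot_iff.1 (hNC ▸ fun x hx => Subgroup.mem_centralizer_iff.2 fun y hy => ?_)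
            exact congrArg Subtype.val (hcomm ⟨y, hy⟩ ⟨x, hx⟩)
          subst hb
          simp at hN3)
        fun r hr hr2 => ⟨hNd r hr hr2, fun hd => hd.trans (Subgroup.card_subgroup_dvd_card N)⟩
    rcases hNl with ⟨F', iF, iFF, hq, ⟨e⟩⟩ | ⟨F', iF, iFF, hq, ⟨e⟩⟩
    · have h3 : (Nat.card N).primeFactors.card ≤ 3 := by
        refine psl_primes_le (hXe.subgroup N) e ?_
        rcases hq with h4 | h9 | hp
        · exact Or.inr (Or.inl ⟨2, h4⟩)
        · exact Or.inl h9
        · exact Or.inr (Or.inr hp)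
      rw [hNpf]
      exact ⟨by omega, fun e => by omega⟩
    · have hN' : Nat.card N = 20160 := (Nat.card_congr e.toEquiv).trans (card_psl34 hq)
      rw [hNpf, hN', primeFactors_psl34]
      refine ⟨by decide, fun _ => Or.inl ⟨F', iF, iFF, hq, ?_⟩⟩
      have htop := eq_top_of_psl34 hXe hN'
      let eX : G ⧸ Cfsg.pCore 2 G ≃* Matrix.ProjectiveSpecialLinearGroup (Fin 3) F' :=
        (((MulEquiv.subgroupCongr htop).trans Subgroup.topEquiv).symm).trans e
      have hbot := eq_bot_of_psl34 h PSolvable.pCore_isPGroup hq eX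
      exact ⟨((QuotientGroup.quotientMulEquivOfEq hbot).trans QuotientGroup.quotientBot).symm.trans eX⟩

end Cfsg.Agent.Lib.CITGroups
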